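import Groth.Agent.Lib.BootUnif3.Formal

/-!
# The limit of the cohomology of the quotients
-/

set_option autoImplicit false
set_option linter.style.haveILetI false
set_option linter.unusedSectionVars false

universe u

open CategoryTheory GrothLib.DualRing PrimeSpectrum GrothLib.LCSupp

attribute [local instance] HasDerivedCategory.standard

namespace GrothLib.BootUnif3

variable {A : Type u} [CommRing A] {I : Ideal A} {M : Type u} [AddCommGroup M] [Module A M]
  {T : Set (PrimeSpectrum A)} {i : ℕ}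

theorem τ₃_map_map {a b c : ℕ} (h₁ : a ≤ b) (h₂ : b ≤ c) (x : (HF T i).obj (powQuot I M c).X₃) :
    (HF T i).map (powQuotMap I M h₁).τ₃ ((HF T i).map (powQuotMap I M h₂).τ₃ x) =
      (HF T i).map (powQuotMap I M (h₁.trans h₂)).τ₃ x := by
  have h : (powQuotMap I M h₂).τ₃ ≫ (powQuotMap I M h₁).τ₃ = (powQuotMap I M (h₁.trans h₂)).τ₃ :=
    ModuleCat.hom_ext (Submodule.linearMap_qext _ (LinearMap.ext fun _ => rfl))
  rw [← h, Functor.map_comp]
  rfl

theorem τ₃_map_g {a b : ℕ} (h : a ≤ b) (x : (HF T i).obj (ModuleCat.of A M)) :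
    (HF T i).map (powQuotMap I M h).τ₃ ((HF T i).map (powQuot I M b).g x) = (HF T i).map (powQuot I M a).g x := by
  have hg : (powQuot I M b).g ≫ (powQuotMap I M h).τ₃ = (powQuot I M a).g :=
    ModuleCat.hom_ext (LinearMap.ext fun _ => rfl)
  exact (ConcreteCategory.congr_hom ((HF T i).map_comp (powQuot I M b).g (powQuotMap I M h).τ₃) x).symm.trans
    (congrArg (fun φ => (HF T i).map φ x) hg)

/-- Compatible classes are compatible with all transition maps. -/
theorem compat_all (y : ∀ n, (HF T i).obj (powQuot I M n).X₃)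
    (hy : ∀ n, (HF T i).map (powQuotMap I M (Nat.le_succ n)).τ₃ (y (n + 1)) = y n) :
    ∀ (b a : ℕ) (h : a ≤ b), (HF T i).map (powQuotMap I M h).τ₃ (y b) = y a := by
  intro b
  induction b with
  | zero =>
    intro a h
    obtain rfl : a = 0 := Nat.le_zero.1 h
    have : (powQuotMap I M h).τ₃ = 𝟙 _ :=
      ModuleCat.hom_ext (Submodule.linearMap_qext _ (LinearMap.ext fun _ => rfl))
    rw [this, CategoryTheory.Functor.map_id]
    rfl
  | succ b ih =>
    intro a h
    rcases Nat.lt_or_ge a (b + 1) with hlt | hge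
    · have hab : a ≤ b := Nat.lt_succ_iff.1 hlt
      rw [← τ₃_map_map hab (Nat.le_succ b), hy b]
      exact ih a hab
    · obtain rfl : a = b + 1 := le_antisymm h hge
      have : (powQuotMap I M h).τ₃ = 𝟙 _ :=
        ModuleCat.hom_ext (Submodule.linearMap_qext _ (LinearMap.ext fun _ => rfl))
      rw [this, CategoryTheory.Functor.map_id]
      rfl

variable [IsNoetherianRing A] [Module.Finite A M] {ω : Dual.D A} (hω : Dual.IsDualizing A ω) {d s : ℕ}
  (S : Cond I d s M T)

include hω S in
/-- Compatible classes come from `M`. -/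
theorem exists_of_compatible (hi : i ≤ s) (y : ∀ n, (HF T i).obj (powQuot I M n).X₃)
    (hy : ∀ n, (HF T i).map (powQuotMap I M (Nat.le_succ n)).τ₃ (y (n + 1)) = y n) :
    ∃ x : (HF T i).obj (ModuleCat.of A M), ∀ n, (HF T i).map (powQuot I M n).g x = y n := by
  obtain ⟨m₀, hm₀⟩ := exists_f_zero hω S i (by omega)
  have hexists : ∀ n : ℕ, ∃ z : (HF T i).obj (ModuleCat.of A M), (HF T i).map (powQuot I M n).g z = y n := fun n => by
    obtain ⟨k, hk, hlift⟩ := exists_lift hω S i hi n
    obtain ⟨z, hz⟩ := hlift k le_rfl (y k)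
    exact ⟨z, hz.trans (compat_all y hy k n hk)⟩
  choose z hz using hexists
  have hg : ∀ a b : ℕ, a ≤ b → (HF T i).map (powQuot I M a).g (z b) = y a := fun a b h => by
    rw [← τ₃_map_g h, hz b]
    exact compat_all y hy b a h
  refine ⟨z m₀, fun n => ?_⟩
  rcases le_total n m₀ with hn | hn
  · exact hg n m₀ hn
  · have hd : (HF T i).map (powQuot I M m₀).g (z m₀ - z n) = 0 :=
      (map_sub ((HF T i).map (powQuot I M m₀).g).hom (z m₀) (z n)).trans
        (sub_eq_zero.2 ((hz m₀).trans (hg m₀ n hn).symm))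
    obtain ⟨w, hw⟩ := exists_of_map_g_eq_zero (powQuot_shortExact I M m₀) hd
    rw [sub_eq_zero.1 (hw.symm.trans (hm₀ m₀ le_rfl w))]
    exact hz n

end GrothLib.BootUnif3
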