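import Groth.Agent.Lib.LC.Torsion
import Groth.Agent.Lib.LC.Seq
import Mathlib.RingTheory.Filtration
import Mathlib.LinearAlgebra.StdBasis
import Mathlib.Algebra.Category.ModuleCat.Injective

/-!
# Maps into injective modules are acyclic for local cohomology
-/

set_option autoImplicit false
set_option linter.style.haveILetI false
set_option linter.unusedSectionVars false

universe u

open CategoryTheory CategoryTheory.Limits GrothLib.LC

namespace GrothLib.BootUnif3

variable {A : Type u} [CommRing A] [IsNoetherianRing A] (I : Ideal A)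

theorem subsingleton_linearMap_injective (E : Type u) [AddCommGroup E] [Module A E] [Module.Injective A E] :
    ∀ (p : ℕ) (N : Type u) [AddCommGroup N] [Module A N] [Module.Finite A N],
      Subsingleton ((localCohomology I (p + 1)).obj (ModuleCat.of A (N →ₗ[A] E))) := by
  intro p
  induction p using Nat.strong_induction_on with
  | _ p ih =>
  intro N _ _ _
  obtain ⟨r, π, hπ⟩ := Module.Finite.exists_fin' A N
  let K := LinearMap.ker π
  let S : ShortComplex (ModuleCat.{u} A) := ShortComplex.mk (X₁ := ModuleCat.of A (N →ₗ[A] E))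
    (X₂ := ModuleCat.of A ((Fin r → A) →ₗ[A] E)) (X₃ := ModuleCat.of A (K →ₗ[A] E))
    (ModuleCat.ofHom (LinearMap.lcomp A E π)) (ModuleCat.ofHom (LinearMap.lcomp A E K.subtype))
    (ModuleCat.hom_ext (LinearMap.ext fun (f : N →ₗ[A] E) => LinearMap.ext fun (x : K) => by
      show f (π x.1) = 0
      rw [(LinearMap.mem_ker.1 x.2), map_zero]))
  have hS : S.ShortExact :=
    { exact := (ShortComplex.moduleCat_exact_iff _).2 fun (g : (Fin r → A) →ₗ[A] E) hg =>
        have hK : K ≤ LinearMap.ker g := fun z hz => LinearMap.congr_fun hg ⟨z, hz⟩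
        ⟨(K.liftQ g hK).comp (LinearMap.quotKerEquivOfSurjective π hπ).symm.toLinearMap, LinearMap.ext fun z => by
          show K.liftQ g hK ((LinearMap.quotKerEquivOfSurjective π hπ).symm (π z)) = g z
          rw [show π z = LinearMap.quotKerEquivOfSurjective π hπ (Submodule.Quotient.mk z) from rfl,
            LinearEquiv.symm_apply_apply]
          rfl⟩
      mono_f := (ModuleCat.mono_iff_injective _).2 fun (f : N →ₗ[A] E) g h => LinearMap.ext fun y => by
        obtain ⟨z, rfl⟩ := hπ y
        exact LinearMap.congr_fun h z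
      epi_g := (ModuleCat.epi_iff_surjective _).2 fun (g : K →ₗ[A] E) => by
        obtain ⟨h, hh⟩ := Module.Injective.out K.subtype Subtype.val_injective g
        exact ⟨h, LinearMap.ext hh⟩ }
  have h₂ : ∀ i : ℕ, Subsingleton ((localCohomology I (i + 1)).obj S.X₂) := fun i => by
    haveI : Module.Injective A (Fin r → E) := inferInstance
    haveI := Module.injective_object_of_injective_module A (Fin r → E)
    haveI := subsingleton_of_injective I (ModuleCat.of A (Fin r → E)) i
    exact ((localCohomology I (i + 1)).mapIso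
      ((Pi.basisFun A (Fin r)).constr A).toModuleIso).symm.toLinearEquiv.toEquiv.subsingleton
  rcases p with - | p
  · refine subsingleton_of_forall_eq 0 fun x => ?_
    obtain ⟨y, rfl⟩ := exists_of_map_f_eq_zero I hS 0 (x := x) ((h₂ 0).elim _ _)
    obtain ⟨z, rfl⟩ := map_zero_surjective I S.g (fun (g : K →ₗ[A] E) hg => by
      obtain ⟨m, hm⟩ := hg
      obtain ⟨k, hk⟩ := I.exists_pow_inf_eq_pow_smul K
      let U : Submodule A (Fin r → A) := I ^ (k + m) • ⊤
      let l : K →ₗ[A] ((Fin r → A) ⧸ U) := U.mkQ ∘ₗ K.subtype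
      have hlg : LinearMap.ker l ≤ LinearMap.ker g := fun x hx => by
        have hx' : (x : Fin r → A) ∈ I ^ (k + m) • (⊤ : Submodule A (Fin r → A)) ⊓ K :=
          ⟨(Submodule.Quotient.mk_eq_zero U).1 hx, x.2⟩
        rw [hk (k + m) (by omega), Nat.add_sub_cancel_left] at hx'
        have key : ∀ z ∈ I ^ m • (I ^ k • (⊤ : Submodule A (Fin r → A)) ⊓ K), ∃ hz : z ∈ K, g ⟨z, hz⟩ = 0 := by
          intro z hz
          induction hz using Submodule.smul_induction_on' with
          | smul a ha w hw =>
            refine ⟨K.smul_mem a hw.2, ?_⟩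
            exact (g.map_smul a ⟨w, hw.2⟩).trans (LinearMap.congr_fun (hm a ha) ⟨w, hw.2⟩)
          | add z _ w _ h1 h2 =>
            obtain ⟨hz, h1⟩ := h1
            obtain ⟨hw, h2⟩ := h2
            exact ⟨K.add_mem hz hw, (g.map_add ⟨z, hz⟩ ⟨w, hw⟩).trans (by rw [h1, h2, add_zero])⟩
        obtain ⟨_, h⟩ := key _ hx'
        exact h
      let g' : LinearMap.range l →ₗ[A] E :=
        ((LinearMap.ker l).liftQ g hlg).comp l.quotKerEquivRange.symm.toLinearMap
      obtain ⟨h, hh⟩ := Module.Injective.out (LinearMap.range l).subtype Subtype.val_injective g'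
      refine ⟨h ∘ₗ U.mkQ, ⟨k + m, fun a ha => LinearMap.ext fun z => ?_⟩, LinearMap.ext fun x => ?_⟩
      · show a • h (U.mkQ z) = 0
        rw [← map_smul, ← map_smul, Submodule.mkQ_apply,
          (Submodule.Quotient.mk_eq_zero U).2 (Submodule.smul_mem_smul ha Submodule.mem_top), map_zero]
      · refine (hh ⟨l x, LinearMap.mem_range_self l x⟩).trans ?_
        show (LinearMap.ker l).liftQ g hlg (l.quotKerEquivRange.symm ⟨l x, _⟩) = g x
        rw [LinearMap.quotKerEquivRange_symm_apply_image l x]
        rfl) y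
    exact δ_map_g I hS 0 z
  · exact GrothLib.LC.subsingleton₁ I hS (p + 1) (h₂ (p + 1)) (ih p (Nat.lt_succ_self p) K)

end GrothLib.BootUnif3
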