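import Groth.Agent.Lib.BootUnif3.Strata
import Groth.Agent.Lib.DualCx22.RestrictSmul

/-!
# The criterion for dying, over the ground ring
-/

set_option autoImplicit false
set_option linter.style.haveILetI false
set_option linter.unusedSectionVars false

universe u

open CategoryTheory CategoryTheory.Limits GrothLib.DualCx22 GrothLib.DualRing

attribute [local instance] HasDerivedCategory.standard

namespace GrothLib.BootUnif3

section nat

variable {A B : Type u} [CommRing A] [CommRing B]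

theorem homShiftLEquiv₀_symm_comp {X X' Y : Dual.D A} (m i : ℤ) (h : i + m = 0) (f : X ⟶ X') (g : X' ⟶ Y⟦i⟧) :
    (homShiftLEquiv₀ X Y m i h).symm (f ≫ g) = f⟦m⟧' ≫ (homShiftLEquiv₀ X' Y m i h).symm g := by
  simp [homShiftLEquiv₀, homShiftLEquiv, Linear.homCongr_symm_apply]

theorem homShiftLEquiv₀_comp {X X' Y : Dual.D A} (m i : ℤ) (h : i + m = 0) (f : X ⟶ X') (g : X'⟦m⟧ ⟶ Y) :
    homShiftLEquiv₀ X Y m i h (f⟦m⟧' ≫ g) = f ≫ homShiftLEquiv₀ X' Y m i h g := by
  apply (homShiftLEquiv₀ X Y m i h).symm.injective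
  rw [LinearEquiv.symm_apply_apply, homShiftLEquiv₀_symm_comp, LinearEquiv.symm_apply_apply]

/-- The shifted adjunction is natural in the source. -/
theorem homEquivShift_naturality (φ : A →+* B) {R : Dual.D A ⥤ Dual.D B} (adj : DRing.restrictD φ ⊣ R)
    {X X' : Dual.D B} (f : X ⟶ X') (K : Dual.D A) (i : ℤ) (ξ : X' ⟶ (R.obj K)⟦i⟧) :
    homEquivShift φ adj X K i (f ≫ ξ) = (DRing.restrictD φ).map f ≫ homEquivShift φ adj X' K i ξ := by
  simp only [homEquivShift, Equiv.trans_apply, LinearEquiv.coe_toEquiv, LinearEquiv.coe_toEquiv_symm,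
    Iso.homFromEquiv_apply]
  have h1 : (homShiftLEquiv₀ X (R.obj K) (-i) i (by omega)).symm (f ≫ ξ) =
      f⟦-i⟧' ≫ (homShiftLEquiv₀ X' (R.obj K) (-i) i (by omega)).symm ξ := homShiftLEquiv₀_symm_comp _ _ _ _ _
  change homShiftLEquiv₀ _ _ _ _ _ (_ ≫ (adj.homEquiv _ _).symm
    ((homShiftLEquiv₀ X (R.obj K) (-i) i (by omega)).symm (f ≫ ξ))) = _
  rw [h1, Adjunction.homEquiv_naturality_left_symm]
  have hn := ((DRing.restrictD φ).commShiftIso (-i)).inv.naturality f
  dsimp only [Functor.comp_obj, Functor.comp_map] at hn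
  have := homShiftLEquiv₀_comp (-i) i (by omega) ((DRing.restrictD φ).map f)
    ((((DRing.restrictD φ).commShiftIso (-i)).app X').inv ≫ (adj.homEquiv _ _).symm
      ((homShiftLEquiv₀ X' (R.obj K) (-i) i (by omega)).symm ξ))
  refine Eq.trans (congrArg _ ?_) this
  rw [← Category.assoc, ← Category.assoc]
  exact congrArg (· ≫ _) hn.symm

end nat

variable {A : Type u} [CommRing A] [IsNoetherianRing A] {ω : Dual.D A}

/-- Restriction of a module over the dual numbers, as a functor value. -/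
noncomputable abbrev resP (P : ModuleCat.{u} (DualNumber A)) : ModuleCat.{u} A :=
  (ModuleCat.restrictScalars.{u} (algebraMap A (DualNumber A))).obj P

theorem resP_smul {N' N : ModuleCat.{u} A} (φ : N' ⟶ N) (a : A)
    (p : resP (ModuleCat.of (DualNumber A) (PairMod φ))) :
    (show PairMod φ from a • p) = a • (show PairMod φ from p) :=
  algebraMap_smul (DualNumber A) a (show PairMod φ from p)

variable {R : Dual.D A ⥤ Dual.D (DualNumber A)}
  (adj : DRing.restrictD (algebraMap A (DualNumber A)) ⊣ R)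

include adj in
/-- If a map kills the maps into the shifted dualizing complex near `q`, its dual-number module is killed by `ε`
there. -/
theorem eps_killed {N' N : ModuleCat.{u} A} (φ : N' ⟶ N) (q : PrimeSpectrum A) (j : ℤ)
    (h : ∀ ζ : (DerivedCategory.singleFunctor (ModuleCat.{u} A) 0).obj N ⟶ ω⟦j⟧, ∃ t : A, t ∉ q.asIdeal ∧
      t • ((DerivedCategory.singleFunctor (ModuleCat.{u} A) 0).map φ ≫ ζ) = 0)
    (ξ : EH (R.obj ω) (Dual.inD (DualNumber A) (PairMod φ)) j) :
    ∃ s, s ∉ (upPrime q).asIdeal ∧ s • (DualNumber.eps : DualNumber A) • ξ = 0 := by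
  let R' := DualNumber A
  let g := algebraMap A R'
  let F := ModuleCat.restrictScalars.{u} g
  let S := DerivedCategory.singleFunctor (ModuleCat.{u} A) 0
  let P := ModuleCat.of R' (PairMod φ)
  let ι₂ : N ⟶ F.obj P := ModuleCat.ofHom (Y := F.obj P)
    { toFun := fun x => ((0 : N'), x)
      map_add' := fun x y => Prod.ext (zero_add (0 : N')).symm rfl
      map_smul' := fun a x => Eq.symm ((resP_smul φ a ((0 : N'), x)).trans (Prod.ext (smul_zero a) rfl)) }
  let π₁ : F.obj P ⟶ N' := ModuleCat.ofHom (X := F.obj P)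
    { toFun := fun p => (show PairMod φ from p).1
      map_add' := fun x y => rfl
      map_smul' := fun a x => congrArg Prod.fst (resP_smul φ a x) }
  have heps : F.map ((DualNumber.eps : R') • 𝟙 P) = π₁ ≫ φ ≫ ι₂ := by
    refine ModuleCat.hom_ext (LinearMap.ext fun p => Prod.ext ?_ ?_)
    · show (DualNumber.eps : R').fst • (show PairMod φ from p).1 = 0
      simp
    · show (DualNumber.eps : R').fst • (show PairMod φ from p).2 +
        (DualNumber.eps : R').snd • φ.hom (show PairMod φ from p).1 = φ.hom (show PairMod φ from p).1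
      simp
  let θ := (F.mapDerivedCategorySingleFunctor 0).app P
  let Hξ := homEquivShift g adj (Dual.inD R' (PairMod φ)) ω j ξ
  obtain ⟨t, ht, h0⟩ := h (S.map ι₂ ≫ θ.inv ≫ Hξ)
  refine ⟨g t, fun h' => ht h', (homEquivShift g adj _ ω j).injective ?_⟩
  have h00 : homEquivShift g adj (Dual.inD R' (PairMod φ)) ω j 0 = 0 := by
    simpa using homEquivShift_smul g adj (Dual.inD R' (PairMod φ)) ω j 0 0
  rw [h00, homEquivShift_smul]
  have hε : (DualNumber.eps : R') • ξ =
      (DerivedCategory.singleFunctor (ModuleCat.{u} R') 0).map ((DualNumber.eps : R') • 𝟙 P) ≫ ξ := by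
    refine Eq.symm (Eq.trans (congrArg (· ≫ ξ) ((DerivedCategory.singleFunctor (ModuleCat.{u} R') 0).map_smul
      (R := R') (X := P) (Y := P) (r := DualNumber.eps) (f := 𝟙 P))) ?_)
    rw [CategoryTheory.Functor.map_id, Linear.smul_comp]
    exact congrArg ((DualNumber.eps : R') • ·) (Category.id_comp ξ)
  rw [hε, homEquivShift_naturality]
  have hn := (F.mapDerivedCategorySingleFunctor 0).hom.naturality ((DualNumber.eps : R') • 𝟙 P)
  dsimp only [Functor.comp_obj, Functor.comp_map] at hn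
  have hn' : (DRing.restrictD g).map
      ((DerivedCategory.singleFunctor (ModuleCat.{u} R') 0).map ((DualNumber.eps : R') • 𝟙 P)) =
      θ.hom ≫ S.map (F.map ((DualNumber.eps : R') • 𝟙 P)) ≫ θ.inv := by
    rw [← Category.assoc, Iso.eq_comp_inv]
    exact hn
  rw [hn', heps, Functor.map_comp, Functor.map_comp]
  simp only [Category.assoc]
  have h1 : t • (S.map φ ≫ S.map ι₂ ≫ θ.inv ≫ Hξ) = 0 := h0
  refine ((Linear.comp_smul _ _ _ _ _ _).symm.trans (congrArg (θ.hom ≫ ·) ?_)).trans comp_zero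
  exact ((Linear.comp_smul _ _ _ _ _ _).symm.trans (congrArg (S.map π₁ ≫ ·) h1)).trans comp_zero

include adj in
/-- The degree at the prime over `q`. -/
theorem deg_upPrime (hω : Dual.IsDualizing A ω) (hω' : Dual.IsDualizing (DualNumber A) (R.obj ω))
    (q : PrimeSpectrum A) : deg hω' (upPrime q).asIdeal = deg hω q.asIdeal := by
  let R' := DualNumber A
  let g := algebraMap A R'
  let j := deg hω' (upPrime q).asIdeal
  by_contra hne
  refine (mu_ne_zero_iff hω' (upPrime q).asIdeal j).2 rfl ?_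
  have h0 : ∀ ζ : EH ω (Dual.inD A (A ⧸ q.asIdeal)) j, ∃ s ∉ q.asIdeal, s • ζ = 0 :=
    len_eq_zero_iff.1 (mu_ne_deg hω q.asIdeal hne)
  let Q := R' ⧸ (upPrime q).asIdeal
  let l : A →ₗ[A] ((ModuleCat.restrictScalars.{u} g).obj (ModuleCat.of R' Q)) :=
    LinearMap.toSpanSingleton A ((ModuleCat.restrictScalars.{u} g).obj (ModuleCat.of R' Q))
      (Ideal.Quotient.mk (upPrime q).asIdeal 1)
  have hl : ∀ a, l a = Ideal.Quotient.mk (upPrime q).asIdeal (g a) := fun a => by
    change g a • (Ideal.Quotient.mk (upPrime q).asIdeal 1) = _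
    show Ideal.Quotient.mk (upPrime q).asIdeal (g a * 1) = _
    rw [mul_one]
  have hk : q.asIdeal = LinearMap.ker l := by
    ext a
    rw [LinearMap.mem_ker, hl]
    exact (Ideal.Quotient.eq_zero_iff_mem.trans (mem_upPrime (q := q) (r := g a))).symm
  have hls : Function.Surjective l := fun y => by
    obtain ⟨b, rfl⟩ := Ideal.Quotient.mk_surjective (I := (upPrime q).asIdeal) y
    refine ⟨b.fst, (hl _).trans (Ideal.Quotient.eq.2 ?_)⟩
    show (g b.fst - b).fst ∈ q.asIdeal
    rw [TrivSqZeroExt.fst_sub, show (g b.fst).fst = b.fst from rfl, sub_self]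
    exact zero_mem _
  let eM := (Submodule.quotEquivOfEq _ _ hk).trans (LinearMap.quotKerEquivOfSurjective l hls)
  let θ := ((ModuleCat.restrictScalars.{u} g).mapDerivedCategorySingleFunctor 0).app (ModuleCat.of R' Q)
  let Ψ : (Dual.inD R' Q ⟶ (R.obj ω)⟦j⟧) ≃ (Dual.inD A (A ⧸ q.asIdeal) ⟶ ω⟦j⟧) :=
    (homEquivShift g adj _ ω j).trans (Linear.homCongr A
      (θ ≪≫ ((DerivedCategory.singleFunctor (ModuleCat.{u} A) 0).mapIso eM.toModuleIso).symm) (Iso.refl _)).toEquiv
  have hΨ : ∀ (a : A) f, Ψ (g a • f) = a • Ψ f := fun a f => by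
    simp only [Ψ, Equiv.trans_apply, LinearEquiv.coe_toEquiv]
    rw [homEquivShift_smul, map_smul]
  refine len_eq_zero_iff.2 fun ξ => ?_
  obtain ⟨s, hs, hz⟩ := h0 (Ψ ξ)
  refine ⟨g s, fun h => hs h, Ψ.injective ?_⟩
  have h00 : Ψ 0 = 0 := by simpa using hΨ 0 0
  rw [hΨ, h00]
  exact hz

/-- **Dying from vanishing over the ground ring.** -/
theorem dies_of_comp_zero (hω : Dual.IsDualizing A ω) {N' N : ModuleCat.{u} A} [Module.Finite A N']
    [Module.Finite A N] (φ : N' ⟶ N) (q : PrimeSpectrum A) (i : ℕ)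
    (h : ∀ ζ : (DerivedCategory.singleFunctor (ModuleCat.{u} A) 0).obj N ⟶ ω⟦deg hω q.asIdeal - i⟧,
      ∃ t : A, t ∉ q.asIdeal ∧ t • ((DerivedCategory.singleFunctor (ModuleCat.{u} A) 0).map φ ≫ ζ) = 0)
    {J : Ideal A} (hJ : q.asIdeal ∈ J.minimalPrimes) : Dies J q i φ := by
  let adj := GrothLib.KInj.derivedAdj
    (ModuleCat.restrictCoextendScalarsAdj.{u, u, u} (algebraMap A (DualNumber A)))
  have hω' := isDualizing_rightAdjoint _ adj hω
  refine (dies_iff φ hω hω' q hJ i).2 fun ξ => ?_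
  have hdeg := deg_upPrime adj hω hω' q
  have key : ∀ j : ℤ, j = deg hω q.asIdeal - i → ∀ ξ : EH _ (Dual.inD (DualNumber A) (PairMod φ)) j,
      ∃ s, s ∉ (upPrime q).asIdeal ∧ s • (DualNumber.eps : DualNumber A) • ξ = 0 := fun j hj ξ =>
    eps_killed adj φ q j (fun ζ => by subst hj; exact h ζ) ξ
  exact key _ (by rw [hdeg]) ξ

end GrothLib.BootUnif3
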