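import Groth.Agent.Lib.DualRing.Hom
import Groth.Agent.Lib.DualRing.HomHD
import Groth.Agent.Lib.DualCx22.DualRep
import Mathlib.Algebra.Homology.HomotopyCategory.HomComplexSingle

/-!
# Maps into a dualizing complex as cycles
-/

set_option autoImplicit false
set_option linter.style.haveILetI false
set_option linter.unusedSectionVars false

universe u

open CategoryTheory CategoryTheory.Limits CochainComplex CochainComplex.HomComplex GrothLib.DualCx22 GrothLib.DualRing

attribute [local instance] HasDerivedCategory.standard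

namespace GrothLib.BootUnif3

variable {A : Type u} [CommRing A] {ω : Dual.D A} (r : InjRep ω)

/-- The maps into a term of the complex. -/
noncomputable abbrev HW (N : ModuleCat.{u} A) (n : ℤ) : ModuleCat.{u} A := ModuleCat.of A (N ⟶ r.I.X n)

/-- The differential. -/
noncomputable abbrev hd (N : ModuleCat.{u} A) (n : ℤ) : HW r N n →ₗ[A] HW r N (n + 1) :=
  Linear.rightComp A N (r.I.d n (n + 1))

theorem hd_apply (N : ModuleCat.{u} A) (n : ℤ) (x : N ⟶ r.I.X n) : hd r N n x = x ≫ r.I.d n (n + 1) := rfl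

theorem hd_hd (N : ModuleCat.{u} A) (n : ℤ) (x : HW r N n) : hd r N (n + 1) (hd r N n x) = 0 := by
  show (x ≫ r.I.d n (n + 1)) ≫ r.I.d (n + 1) (n + 1 + 1) = 0
  rw [Category.assoc, HomologicalComplex.d_comp_d, comp_zero]

/-- The map in the derived category of a cycle. -/
noncomputable def toEH (N : ModuleCat.{u} A) (j : ℤ) (x : N ⟶ r.I.X j) (hx : x ≫ r.I.d j (j + 1) = 0) :
    (DerivedCategory.singleFunctor (ModuleCat.{u} A) 0).obj N ⟶ ω⟦j⟧ :=
  ((DerivedCategory.singleFunctorIsoCompQ (ModuleCat.{u} A) 0).hom.app N ≫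
    cocycleHom _ r.I j (Cocycle.fromSingleMk x (zero_add j) (j + 1) rfl hx)) ≫ r.iso.hom⟦j⟧'

theorem toEH_precomp {N' N : ModuleCat.{u} A} (φ : N' ⟶ N) (j : ℤ) (x : N ⟶ r.I.X j)
    (hx : x ≫ r.I.d j (j + 1) = 0) :
    toEH r N' j (φ ≫ x) (by rw [Category.assoc, hx, comp_zero]) =
      (DerivedCategory.singleFunctor (ModuleCat.{u} A) 0).map φ ≫ toEH r N j x hx := by
  unfold toEH cocycleHom
  rw [Cocycle.fromSingleMk_precomp φ x (zero_add j) (j + 1) rfl hx, Cocycle.equivHomShift_symm_precomp,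
    Functor.map_comp]
  simp only [← Category.assoc]
  refine congrArg (fun z => ((z ≫ _) ≫ _) ≫ _) ?_
  exact ((DerivedCategory.singleFunctorIsoCompQ (ModuleCat.{u} A) 0).hom.naturality φ).symm

theorem toEH_add (N : ModuleCat.{u} A) (j : ℤ) (x y : N ⟶ r.I.X j) (hx : x ≫ r.I.d j (j + 1) = 0)
    (hy : y ≫ r.I.d j (j + 1) = 0) :
    toEH r N j (x + y) (by rw [Preadditive.add_comp, hx, hy, add_zero]) = toEH r N j x hx + toEH r N j y hy := by
  unfold toEH cocycleHom
  rw [Cocycle.fromSingleMk_add x y (zero_add j) (j + 1) rfl hx hy, map_add, Functor.map_add]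
  simp only [Preadditive.add_comp, Preadditive.comp_add]

theorem toEH_eq_zero_iff (N : ModuleCat.{u} A) (j i : ℤ) (hi : i + 1 = j) (x : N ⟶ r.I.X j)
    (hx : x ≫ r.I.d j (j + 1) = 0) : toEH r N j x hx = 0 ↔ ∃ y : N ⟶ r.I.X i, y ≫ r.I.d i j = x := by
  haveI := r.kInj
  unfold toEH
  rw [Preadditive.IsIso.comp_right_eq_zero, Preadditive.IsIso.comp_left_eq_zero, cocycleHom_eq_zero_iff,
    Cocycle.fromSingleMk_mem_coboundaries_iff x (zero_add j) (j + 1) rfl hx i hi]

theorem exists_toEH_eq (N : ModuleCat.{u} A) (j : ℤ)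
    (ξ : (DerivedCategory.singleFunctor (ModuleCat.{u} A) 0).obj N ⟶ ω⟦j⟧) :
    ∃ (x : N ⟶ r.I.X j) (hx : x ≫ r.I.d j (j + 1) = 0), toEH r N j x hx = ξ := by
  haveI := r.kInj
  obtain ⟨z, hz⟩ := cocycleHom_surjective ((CochainComplex.singleFunctor (ModuleCat.{u} A) 0).obj N) r.I j
    ((DerivedCategory.singleFunctorIsoCompQ (ModuleCat.{u} A) 0).inv.app N ≫ ξ ≫ r.iso.inv⟦j⟧')
  obtain ⟨x, hx, rfl⟩ := Cocycle.fromSingleMk_surjective z j (zero_add j) (j + 1) rfl
  refine ⟨x, hx, ?_⟩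
  unfold toEH
  refine (congrArg (fun w => ((DerivedCategory.singleFunctorIsoCompQ (ModuleCat.{u} A) 0).hom.app N ≫ w) ≫
    r.iso.hom⟦j⟧') hz).trans ?_
  simp only [Category.assoc]
  rw [← Functor.map_comp, Iso.inv_hom_id, CategoryTheory.Functor.map_id]
  rw [Iso.hom_inv_id_app_assoc]
  exact Category.comp_id ξ

/-- Cycles to maps in the derived category. -/
noncomputable def cycLin (N : ModuleCat.{u} A) (j : ℤ) :
    LinearMap.ker (hd r N j) →ₗ[A] ((DerivedCategory.singleFunctor (ModuleCat.{u} A) 0).obj N ⟶ ω⟦j⟧) where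
  toFun x := toEH r N j x.1 x.2
  map_add' x y := toEH_add r N j x.1 y.1 x.2 y.2
  map_smul' a x := by
    have h : (a • x : LinearMap.ker (hd r N j)).1 = (a • 𝟙 N) ≫ x.1 := by
      rw [Linear.smul_comp, Category.id_comp]; rfl
    have h' : ∀ (z : N ⟶ r.I.X j) (hz : z ≫ r.I.d j (j + 1) = 0), z = (a • 𝟙 N) ≫ x.1 →
        toEH r N j z hz = a • toEH r N j x.1 x.2 := by
      rintro z hz rfl
      rw [toEH_precomp r (a • 𝟙 N) j x.1 x.2, Functor.map_smul, CategoryTheory.Functor.map_id, Linear.smul_comp,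
        Category.id_comp]
    exact h' _ (a • x).2 h

theorem cycLin_surjective (N : ModuleCat.{u} A) (j : ℤ) : Function.Surjective (cycLin r N j) := fun ξ =>
  let ⟨x, hx, h⟩ := exists_toEH_eq r N j ξ
  ⟨⟨x, hx⟩, h⟩

/-- The cohomology of the complex of maps is the dual. -/
theorem nonempty_cohomology_equiv (N : ModuleCat.{u} A) (n : ℤ) :
    Nonempty ((LinearMap.ker (hd r N (n + 1)) ⧸
        (LinearMap.range (hd r N n)).comap (LinearMap.ker (hd r N (n + 1))).subtype) ≃ₗ[A]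
      ((DerivedCategory.singleFunctor (ModuleCat.{u} A) 0).obj N ⟶ ω⟦n + 1⟧)) := by
  refine ⟨(Submodule.quotEquivOfEq _ _ ?_).trans ((cycLin r N (n + 1)).quotKerEquivOfSurjective (cycLin_surjective r N _))⟩
  ext x
  exact (toEH_eq_zero_iff r N (n + 1) n rfl x.1 x.2).symm

end GrothLib.BootUnif3
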