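import Groth.Agent.Lib.BootUnif3.Local
import Groth.Agent.Lib.BootUnif3.HomE
import Groth.Agent.Lib.BootUnif3.Acyclic
import Groth.Agent.Lib.BootUnif3.Crit

/-!
# The system `H^i_q((I^n M)_q)` is pro-zero
-/

set_option autoImplicit false
set_option linter.style.haveILetI false
set_option linter.unusedSectionVars false

universe u

open CategoryTheory TensorProduct GrothLib.DualRing GrothLib.DualCx22 PrimeSpectrum

attribute [local instance] HasDerivedCategory.standard

namespace GrothLib.BootUnif3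

variable {A : Type u} [CommRing A] [IsNoetherianRing A]

/-- The power submodules. -/
abbrev powSub (I : Ideal A) (M : Type u) [AddCommGroup M] [Module A M] (n : ℕ) : Submodule A M :=
  I ^ n • (⊤ : Submodule A M)

/-- The inclusion of power submodules. -/
abbrev powIncl (I : Ideal A) (M : Type u) [AddCommGroup M] [Module A M] {n m : ℕ} (h : n ≤ m) :
    ModuleCat.of A (powSub I M m) ⟶ ModuleCat.of A (powSub I M n) :=
  ModuleCat.ofHom (Submodule.inclusion (Submodule.smul_mono_left (Ideal.pow_le_pow_right h)))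

theorem depth_powSub (I : Ideal A) (M : Type u) [AddCommGroup M] [Module A M] [Module.Finite A M] (b : ℕ)
    (p : PrimeSpectrum A) (hp : ¬ I ≤ p.asIdeal) :
    LocCoh.depth (Localization.AtPrime p.asIdeal) (LocalizedModule p.asIdeal.primeCompl (powSub I M b)) =
      LocCoh.depth (Localization.AtPrime p.asIdeal) (LocalizedModule p.asIdeal.primeCompl M) := by
  obtain ⟨f, hfI, hfp⟩ := SetLike.not_le_iff_exists.1 hp
  let S := p.asIdeal.primeCompl
  let g := LocalizedModule.map S (powSub I M b).subtype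
  have hbij : Function.Bijective g := by
    refine ⟨LocalizedModule.map_injective S _ Subtype.val_injective, fun y => ?_⟩
    induction y using LocalizedModule.induction_on with
    | _ m t =>
      refine ⟨LocalizedModule.mk ⟨f ^ b • m, Submodule.smul_mem_smul (Ideal.pow_mem_pow hfI b) Submodule.mem_top⟩
        (⟨f ^ b, fun h => hfp (p.isPrime.mem_of_pow_mem b h)⟩ * t), ?_⟩
      rw [LocalizedModule.map_mk, LocalizedModule.mk_eq]
      exact ⟨1, by simp [Submonoid.smul_def, mul_smul, smul_comm (f ^ b)]⟩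
  let L := LinearEquiv.ofBijective g hbij
  haveI : Module.Finite (Localization.AtPrime p.asIdeal) (LocalizedModule S M) :=
    Module.Finite.of_isLocalizedModule S (LocalizedModule.mkLinearMap S M)
  haveI : Module.Finite (Localization.AtPrime p.asIdeal) (LocalizedModule S (powSub I M b)) :=
    Module.Finite.of_isLocalizedModule S (LocalizedModule.mkLinearMap S (powSub I M b))
  exact GrothLib.Depth.idealDepth_eq_of_equiv _ L

variable {ω : Dual.D A} (hω : Dual.IsDualizing A ω) {I : Ideal A} {d s : ℕ}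
  {M : Type u} [AddCommGroup M] [Module A M] [Module.Finite A M] {T : Set (PrimeSpectrum A)}
  (S : Cond I d s M T)

include hω S in
/-- One map into the dualizing complex dies on a smaller power. -/
theorem exists_kill {q : PrimeSpectrum A} (hq : q ∈ T) (i : ℕ) (hi : i ≤ s + 1) (b : ℕ) (D : ℤ)
    (hD : D + 1 = deg hω q.asIdeal - i)
    (ζ : (DerivedCategory.singleFunctor (ModuleCat.{u} A) 0).obj (ModuleCat.of A (powSub I M b)) ⟶ ω⟦D + 1⟧) :
    ∃ (m : ℕ) (t : A), t ∉ q.asIdeal ∧ ∀ (m' : ℕ) (h : b ≤ m'), m ≤ m' →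
      t • ((DerivedCategory.singleFunctor (ModuleCat.{u} A) 0).map (powIncl I M h) ≫ ζ) = 0 := by
  obtain ⟨r⟩ := nonempty_injRep hω
  let N := ModuleCat.of A (powSub I M b)
  obtain ⟨x, hx, rfl⟩ := exists_toEH_eq r N (D + 1) ζ
  have hacyc : ∀ (n : ℤ) (p : ℕ), Subsingleton ((localCohomology I (p + 1)).obj (HW r N n)) := fun n p => by
    haveI := r.inj n
    haveI : Module.Injective A (r.I.X n) := Module.injective_module_of_injective_object A (r.I.X n)
    haveI := subsingleton_linearMap_injective I (r.I.X n) p N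
    exact ((localCohomology I (p + 1)).mapIso
      (ModuleCat.homLinearEquiv (S := A) (M := N) (N := r.I.X n)).toModuleIso).toLinearEquiv.toEquiv.subsingleton
  have htop : ∀ z ∈ LinearMap.ker (hd r N (D + 1)), ∃ t : A, t ∉ q.asIdeal ∧ ∃ c : ℕ, ∀ a ∈ I ^ c,
      a • (t • z) ∈ LinearMap.range (hd r N D) := fun z hz => by
    refine exists_smul_pow_mem I (LinearMap.range (hd r N D)) z fun p hpq hp => ?_
    refine le_of_mem_support hω S (powSub I M b) (fun p hp => depth_powSub I M b p hp) hq i hi hpq ?_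
    rw [← hD]
    refine Module.mem_support_iff'.2 ⟨cycLin r N (D + 1) ⟨z, hz⟩, fun a ha h0 => ha (hp a ?_)⟩
    rw [← map_smul] at h0
    obtain ⟨y, hy⟩ := (toEH_eq_zero_iff r N (D + 1) D rfl (a • z : HW r N (D + 1))
      ((LinearMap.ker (hd r N (D + 1))).smul_mem a hz)).1 h0
    exact ⟨y, hy⟩
  have hlow : ∀ (p : ℕ) (n : ℤ), n + 1 + p = D →
      Dead q.asIdeal ((localCohomology I (p + 2)).obj (ModuleCat.of A
        (LinearMap.ker (hd r N (n + 1)) ⧸ (LinearMap.range (hd r N n)).comap (LinearMap.ker (hd r N (n + 1))).subtype))) :=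
    fun p n hn => by
      obtain ⟨eH⟩ := nonempty_cohomology_equiv r N n
      obtain ⟨X, hX, ⟨eX⟩⟩ := exists_finite_hom_equiv hω (Dual.inD A N) (finite_HD_inD N) (n + 1)
      haveI := hX
      haveI : Module.Finite A (LinearMap.ker (hd r N (n + 1)) ⧸
          (LinearMap.range (hd r N n)).comap (LinearMap.ker (hd r N (n + 1))).subtype) :=
        Module.Finite.equiv (eX.trans eH.symm)
      have hdeg : n + 1 = deg hω q.asIdeal - ((i + p + 1 : ℕ) : ℤ) := by push_cast; omega
      refine dead_H_dual hω S (powSub I M b) (fun p hp => depth_powSub I M b p hp) hq p (i + p + 1) (by omega) _ ?_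
      rw [← hdeg]
      exact ⟨eH⟩
  obtain ⟨t, ht, m, y, hy⟩ := exists_sub_boundary (q := q.asIdeal) I S.cd (HW r N) (hd r N) (hd_hd r N) hacyc D
    htop hlow x hx
  refine ⟨m + b, t, ht, fun m' h hm => ?_⟩
  let φ := powIncl I M h
  have hz : ∀ w : ModuleCat.of A (powSub I M m'), (φ ≫ (t • x - y ≫ r.I.d D (D + 1))).hom w = 0 := by
    rintro ⟨w, hw⟩
    have hw' : w ∈ I ^ m • powSub I M b := by
      rw [powSub, ← Submodule.smul_assoc, smul_eq_mul, ← pow_add]
      exact Submodule.smul_mono_left (Ideal.pow_le_pow_right hm) hw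
    change (t • x - y ≫ r.I.d D (D + 1)).hom ⟨w, _⟩ = 0
    have key : ∀ z ∈ I ^ m • powSub I M b, ∃ hzN : z ∈ powSub I M b,
        (t • x - y ≫ r.I.d D (D + 1)).hom (⟨z, hzN⟩ : powSub I M b) = 0 := by
      intro z hz
      induction hz using Submodule.smul_induction_on' with
      | smul a ha v hv =>
        refine ⟨(powSub I M b).smul_mem a hv, ?_⟩
        refine ((t • x - y ≫ r.I.d D (D + 1)).hom.map_smul a ⟨v, hv⟩).trans ?_
        exact LinearMap.congr_fun (congrArg ModuleCat.Hom.hom (hy a ha)) ⟨v, hv⟩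
      | add z _ v _ h1 h2 =>
        obtain ⟨hzN, h1⟩ := h1
        obtain ⟨hvN, h2⟩ := h2
        exact ⟨(powSub I M b).add_mem hzN hvN,
          ((t • x - y ≫ r.I.d D (D + 1)).hom.map_add ⟨z, hzN⟩ ⟨v, hvN⟩).trans (by rw [h1, h2, add_zero])⟩
    obtain ⟨_, h0⟩ := key w hw'
    exact h0
  have hcomp : t • (φ ≫ x) = (φ ≫ y) ≫ r.I.d D (D + 1) := by
    rw [Category.assoc, ← Linear.comp_smul, ← sub_eq_zero, ← Preadditive.comp_sub]
    exact ModuleCat.hom_ext (LinearMap.ext hz)
  have hcyc : (φ ≫ x) ≫ r.I.d (D + 1) (D + 1 + 1) = 0 := by rw [Category.assoc, hx, Limits.comp_zero]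
  rw [← toEH_precomp r φ (D + 1) x hx]
  have hsm := (cycLin r (ModuleCat.of A (powSub I M m')) (D + 1)).map_smul t ⟨φ ≫ x, hcyc⟩
  refine hsm.symm.trans ?_
  exact (toEH_eq_zero_iff r _ (D + 1) D rfl _ _).2 ⟨φ ≫ y, hcomp.symm⟩

include hω S in
/-- **Locally pro-zero.** -/
theorem exists_dies {q : PrimeSpectrum A} (hq : q ∈ T) (i : ℕ) (hi : i ≤ s + 1) (b : ℕ) :
    ∃ (m : ℕ) (h : b ≤ m), ∀ J : Ideal A, q.asIdeal ∈ J.minimalPrimes → Dies J q i (powIncl I M h) := by
  let N := ModuleCat.of A (powSub I M b)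
  let S₀ := DerivedCategory.singleFunctor (ModuleCat.{u} A) 0
  let D : ℤ := deg hω q.asIdeal - i - 1
  obtain ⟨X, hX, ⟨eX⟩⟩ := exists_finite_hom_equiv hω (Dual.inD A N) (finite_HD_inD N) (D + 1)
  obtain ⟨G, hG⟩ := hX.fg_top
  choose m t ht hkill using fun g : {g // g ∈ G} =>
    exists_kill hω S hq i hi b D (by omega) (eX g.1)
  let mm := b + ∑ g : {g // g ∈ G}, m g
  refine ⟨mm, Nat.le_add_right b _, fun J hJ => dies_of_comp_zero hω _ q i ?_ hJ⟩
  have hDi : D + 1 = deg hω q.asIdeal - i := by omega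
  rw [← hDi]
  intro ζ
  refine ⟨∏ g : {g // g ∈ G}, t g, fun h => ?_, ?_⟩
  · obtain ⟨g, -, hg⟩ := q.isPrime.prod_mem_iff.1 h
    exact ht g hg
  obtain ⟨ξ, rfl⟩ := eX.surjective ζ
  have hξ : ξ ∈ Submodule.span A (G : Set X) := hG.symm ▸ Submodule.mem_top
  induction hξ using Submodule.span_induction with
  | mem g hg =>
    obtain ⟨c, hc⟩ := Finset.dvd_prod_of_mem t (Finset.mem_univ (⟨g, hg⟩ : {g // g ∈ G}))
    have hle : m ⟨g, hg⟩ ≤ mm := by
      have := Finset.single_le_sum (f := m) (fun _ _ => Nat.zero_le _) (Finset.mem_univ (⟨g, hg⟩ : {g // g ∈ G}))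
      omega
    rw [hc, mul_comm, mul_smul, hkill ⟨g, hg⟩ mm (Nat.le_add_right b _) hle, smul_zero]
  | zero => rw [map_zero, Limits.comp_zero, smul_zero]
  | add u v _ _ hu hv => rw [map_add, Preadditive.comp_add, smul_add, hu, hv, add_zero]
  | smul c u _ hu => rw [map_smul, Linear.comp_smul, smul_comm, hu, smul_zero]

end GrothLib.BootUnif3
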