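import Groth.Agent.Lib.LC.DTExt
import Groth.Agent.Lib.LC.Torsion
import Groth.Agent.Lib.LCSupp3.Local
import Groth.Prelude.Def_Wider

/-!
# Boundaries up to torsion in a complex with acyclic terms
-/

set_option autoImplicit false
set_option linter.style.haveILetI false
set_option linter.unusedSectionVars false

universe u

open CategoryTheory CategoryTheory.Limits Abelian GrothLib.LC

namespace GrothLib.BootUnif3

variable {A : Type u} [CommRing A]

/-- Every element is killed by something outside the prime. -/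
def Dead (q : Ideal A) (H : Type u) [AddCommGroup H] [Module A H] : Prop := ∀ v : H, ∃ s : A, s ∉ q ∧ s • v = 0

theorem Dead.of_subsingleton {q : Ideal A} [q.IsPrime] {H : Type u} [AddCommGroup H] [Module A H] [Subsingleton H] :
    Dead q H := fun v => ⟨1, (Ideal.ne_top_iff_one q).1 (Ideal.IsPrime.ne_top ‹_›), Subsingleton.elim _ _⟩

variable {q : Ideal A} [q.IsPrime] (I : Ideal A) {S : ShortComplex (ModuleCat.{u} A)} (hS : S.ShortExact)

include hS in
theorem Dead.middle {i : ℕ} (h₁ : Dead q ((localCohomology I i).obj S.X₁))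
    (h₃ : Dead q ((localCohomology I i).obj S.X₃)) : Dead q ((localCohomology I i).obj S.X₂) := fun v => by
  obtain ⟨s, hs, h⟩ := h₃ ((localCohomology I i).map S.g v)
  rw [← map_smul] at h
  obtain ⟨w, hw⟩ := GrothLib.LC.exists_of_map_g_eq_zero I hS i h
  obtain ⟨t, ht, h'⟩ := h₁ w
  refine ⟨t * s, fun hm => (Ideal.IsPrime.mem_or_mem ‹_› hm).elim ht hs, ?_⟩
  rw [mul_smul, ← hw, ← map_smul, h', map_zero]

include hS in
theorem δ_injective {i : ℕ} (h₂ : Subsingleton ((localCohomology I i).obj S.X₂)) :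
    Function.Injective (δ I hS i) := by
  rw [injective_iff_map_eq_zero]
  intro v hv
  obtain ⟨w, rfl⟩ := GrothLib.LC.exists_of_δ_eq_zero I hS i hv
  rw [Subsingleton.elim w 0, map_zero]

include hS in
theorem Dead.right {i : ℕ} (h₂ : Subsingleton ((localCohomology I i).obj S.X₂))
    (h₁ : Dead q ((localCohomology I (i + 1)).obj S.X₁)) : Dead q ((localCohomology I i).obj S.X₃) := fun v => by
  obtain ⟨s, hs, h⟩ := h₁ (δ I hS i v)
  exact ⟨s, hs, δ_injective I hS h₂ (by rw [map_smul, h, map_zero])⟩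

theorem range_seq_shortExact {M M' : ModuleCat.{u} A} (f : M →ₗ[A] M') :
    (ShortComplex.mk (X₁ := ModuleCat.of A (LinearMap.ker f)) (X₂ := M) (X₃ := ModuleCat.of A (LinearMap.range f))
      (ModuleCat.ofHom (LinearMap.ker f).subtype) (ModuleCat.ofHom f.rangeRestrict)
      (ModuleCat.hom_ext (LinearMap.ext fun x => Subtype.ext x.2))).ShortExact where
  exact := (ShortComplex.moduleCat_exact_iff _).2 fun x hx => ⟨⟨x, congrArg Subtype.val hx⟩, rfl⟩
  mono_f := (ModuleCat.mono_iff_injective _).2 Subtype.val_injective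
  epi_g := (ModuleCat.epi_iff_surjective _).2 f.surjective_rangeRestrict

theorem sub_seq_shortExact {M : ModuleCat.{u} A} {B Z : Submodule A M} (h : B ≤ Z) :
    (ShortComplex.mk (X₁ := ModuleCat.of A B) (X₂ := ModuleCat.of A Z) (X₃ := ModuleCat.of A (Z ⧸ B.comap Z.subtype))
      (ModuleCat.ofHom (Submodule.inclusion h)) (ModuleCat.ofHom (B.comap Z.subtype).mkQ)
      (ModuleCat.hom_ext (LinearMap.ext fun x => (Submodule.Quotient.mk_eq_zero _).2 x.2))).ShortExact where
  exact := (ShortComplex.moduleCat_exact_iff _).2 fun x hx =>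
    ⟨⟨x.1, (Submodule.Quotient.mk_eq_zero (B.comap Z.subtype)).1 hx⟩, Subtype.ext rfl⟩
  mono_f := (ModuleCat.mono_iff_injective _).2 (Submodule.inclusion_injective h)
  epi_g := (ModuleCat.epi_iff_surjective _).2 (Submodule.mkQ_surjective _)

variable [IsNoetherianRing A]

/-- **Boundaries up to torsion.** -/
theorem exists_sub_boundary {d : ℕ} (hcd : LocCoh.CdLE A I d) (W : ℤ → ModuleCat.{u} A)
    (dW : ∀ n, W n →ₗ[A] W (n + 1)) (hdd : ∀ n x, dW (n + 1) (dW n x) = 0)
    (hW : ∀ n (p : ℕ), Subsingleton ((localCohomology I (p + 1)).obj (W n))) (j : ℤ)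
    (htop : ∀ x ∈ LinearMap.ker (dW (j + 1)), ∃ t : A, t ∉ q ∧ ∃ c : ℕ, ∀ a ∈ I ^ c,
      a • (t • x) ∈ LinearMap.range (dW j))
    (hlow : ∀ (p : ℕ) (n : ℤ), n + 1 + p = j →
      Dead q ((localCohomology I (p + 2)).obj (ModuleCat.of A
        (LinearMap.ker (dW (n + 1)) ⧸ (LinearMap.range (dW n)).comap (LinearMap.ker (dW (n + 1))).subtype))))
    (x : W (j + 1)) (hx : dW (j + 1) x = 0) :
    ∃ t : A, t ∉ q ∧ ∃ (m : ℕ) (y : W j), ∀ a ∈ I ^ m, a • (t • x - dW j y) = 0 := by
  have claim : ∀ (k p : ℕ), d ≤ p + k → ∀ n : ℤ, n + p = j →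
      Dead q ((localCohomology I (p + 2)).obj (ModuleCat.of A (LinearMap.ker (dW n)))) := by
    intro k
    induction k with
    | zero =>
      intro p hp n _
      haveI : Subsingleton ((localCohomology I (p + 2)).obj (ModuleCat.of A (LinearMap.ker (dW n)))) :=
        hcd _ (p + 2) (by omega)
      exact Dead.of_subsingleton
    | succ k ih =>
      intro p hp n hn
      obtain ⟨n', rfl⟩ : ∃ n', n = n' + 1 := ⟨n - 1, by omega⟩
      have hle : LinearMap.range (dW n') ≤ LinearMap.ker (dW (n' + 1)) := by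
        rintro _ ⟨z, rfl⟩
        exact hdd n' z
      refine Dead.middle I (sub_seq_shortExact hle) (Dead.right I (range_seq_shortExact (dW n')) (hW n' (p + 1)) ?_)
        (hlow p n' hn)
      exact ih (p + 1) (by omega) n' (by push_cast; omega)
  have hZ := claim d 0 (by omega) j (by simp)
  obtain ⟨t, ht, c, hc⟩ := htop x hx
  let f : powI I c ⟶ ModuleCat.of A (LinearMap.range (dW j)) :=
    ModuleCat.ofHom ((LinearMap.toSpanSingleton A (W (j + 1)) (t • x)).comp (I ^ c).subtype |>.codRestrict _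
      fun a => hc a.1 a.2)
  obtain ⟨t', ht', h'⟩ := hZ (δ I (range_seq_shortExact (dW j)) 1 (toH I 1 c _ (powδ I 0 c _ (Ext.mk₀ f))))
  rw [← map_smul] at h'
  have h'' := (injective_iff_map_eq_zero _).1 (δ_injective I (range_seq_shortExact (dW j)) (hW j 0)) _ h'
  rw [← map_smul, toH_eq_zero_iff] at h''
  obtain ⟨m, hm, he⟩ := h''
  rw [← map_smul, powδ_natural, ← Ext.mk₀_smul, Ext.mk₀_comp_mk₀, powδ_zero_eq_zero_iff] at he
  obtain ⟨⟨b, y, rfl⟩, hb⟩ := he
  refine ⟨t' * t, fun h => (Ideal.IsPrime.mem_or_mem ‹_› h).elim ht' ht, m, y, fun a ha => ?_⟩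
  have h1 : t' • (a • (t • x)) = a • dW j y := congrArg Subtype.val (hb ⟨a, ha⟩)
  rw [smul_sub, ← h1, mul_smul, smul_comm a t', sub_self]

/-- An element all whose localisations are torsion is torsion up to one element outside the prime. -/
theorem exists_smul_pow_mem {H : Type u} [AddCommGroup H] [Module A H] (B : Submodule A H) (x : H)
    (h : ∀ p : PrimeSpectrum A, p.asIdeal ≤ q → (∀ a : A, a • x ∈ B → a ∈ p.asIdeal) → I ≤ p.asIdeal) :
    ∃ t : A, t ∉ q ∧ ∃ c : ℕ, ∀ a ∈ I ^ c, a • (t • x) ∈ B := by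
  let K₀ : Ideal A := (Submodule.comap (LinearMap.toSpanSingleton A H x) B)
  let S : Submonoid A := Ideal.primeCompl q
  let K : Ideal A :=
    { carrier := {a | ∃ t, t ∈ S ∧ t * a ∈ K₀}
      zero_mem' := ⟨1, S.one_mem, by simp⟩
      add_mem' := by
        rintro a b ⟨t, ht, hta⟩ ⟨t', ht', htb⟩
        refine ⟨t * t', S.mul_mem ht ht', ?_⟩
        rw [show t * t' * (a + b) = t' * (t * a) + t * (t' * b) by ring]
        exact K₀.add_mem (K₀.mul_mem_left _ hta) (K₀.mul_mem_left _ htb)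
      smul_mem' := by
        rintro r a ⟨t, ht, hta⟩
        refine ⟨t, ht, ?_⟩
        rw [smul_eq_mul, show t * (r * a) = r * (t * a) by ring]
        exact K₀.mul_mem_left _ hta }
  have hIK : I ≤ K.radical := fun f hf => by
    by_contra hfr
    have hdisj : Disjoint (K₀ : Set A) ((S ⊔ Submonoid.powers f : Submonoid A) : Set A) := by
      rw [Set.disjoint_left]
      intro a ha haS
      obtain ⟨t, ht, _, ⟨n, rfl⟩, rfl⟩ := Submonoid.mem_sup.1 haS
      exact hfr ⟨n, t, ht, ha⟩
    obtain ⟨P, hP, hKP, hPd⟩ := Ideal.exists_le_prime_disjoint K₀ _ hdisj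
    have hfP : f ∉ P := fun h' => Set.disjoint_left.1 hPd h'
      (Submonoid.mem_sup_right (Submonoid.mem_powers f))
    refine hfP (h ⟨P, hP⟩ (fun a ha => ?_) (fun a ha => hKP ha) hf)
    by_contra haq
    exact Set.disjoint_left.1 hPd ha (Submonoid.mem_sup_left haq)
  obtain ⟨c, hc⟩ := Ideal.exists_pow_le_of_le_radical_of_fg hIK (IsNoetherian.noetherian I)
  let w : H ⧸ B := B.mkQ x
  obtain ⟨t, ht, htw⟩ := GrothLib.LCSupp3.exists_mem_smul_smul_eq_zero S (I ^ c) w fun a ha => by
    obtain ⟨t, ht, hta⟩ := hc ha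
    refine ⟨t, ht, ?_⟩
    rw [smul_smul, ← map_smul]
    exact (Submodule.Quotient.mk_eq_zero _).2 hta
  refine ⟨t, ht, c, fun a ha => ?_⟩
  have := htw a ha
  rw [← map_smul, ← map_smul] at this
  exact (Submodule.Quotient.mk_eq_zero _).1 this

end GrothLib.BootUnif3
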