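import Groth.Agent.Lib.BootUnif3.Uniform
import Mathlib.RingTheory.AdicCompletion.Basic

/-!
# Consequences for the cohomology of the quotients `M / I^n M`
-/

set_option autoImplicit false
set_option linter.style.haveILetI false
set_option linter.unusedSectionVars false

universe u

open CategoryTheory Abelian GrothLib.DualRing PrimeSpectrum GrothLib.LCSupp

attribute [local instance] HasDerivedCategory.standard

namespace GrothLib.BootUnif3

variable {A : Type u} [CommRing A]

theorem HT_δ_naturality {T : Set (PrimeSpectrum A)} {S S' : ShortComplex (ModuleCat.{u} A)} (hS : S.ShortExact)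
    (hS' : S'.ShortExact) (φ : S ⟶ S') (i : ℕ) (x : (HF T i).obj S.X₃) :
    (HF T (i + 1)).map φ.τ₁ (GrothLib.LCSupp.δ hS i x) = GrothLib.LCSupp.δ hS' i ((HF T i).map φ.τ₃ x) := by
  obtain ⟨J, hJ, e, rfl⟩ := exists_toHT x
  rw [GrothLib.LCSupp.δ_toHT, map_toHT, map_toHT, GrothLib.LCSupp.δ_toHT, Ext.comp_assoc_of_third_deg_zero,
    ShortComplex.ShortExact.extClass_naturality hS hS' φ, ← Ext.comp_assoc_of_second_deg_zero]

theorem exists_of_HT_δ_eq_zero {T : Set (PrimeSpectrum A)} {S : ShortComplex (ModuleCat.{u} A)} (hS : S.ShortExact)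
    {i : ℕ} {x : (HF T i).obj S.X₃} (hx : GrothLib.LCSupp.δ hS i x = 0) : ∃ y, (HF T i).map S.g y = x := by
  obtain ⟨J, hJ, e, rfl, h⟩ := exists_δ hS x
  rw [GrothLib.LCSupp.δ_toHT] at hx
  obtain ⟨y, hy⟩ := h 1 (by rw [hx, smul_zero])
  exact ⟨y, hy.trans (one_smul _ _)⟩

variable (I : Ideal A) (M : Type u) [AddCommGroup M] [Module A M]

/-- The sequence `0 → I^n M → M → M/I^n M → 0`. -/
noncomputable abbrev powQuot (n : ℕ) : ShortComplex (ModuleCat.{u} A) := GrothLib.LC.subQuot (M := ModuleCat.of A M) (powSub I M n)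

theorem powQuot_shortExact (n : ℕ) : (powQuot I M n).ShortExact := GrothLib.LC.subQuot_shortExact _

/-- The map of sequences. -/
noncomputable def powQuotMap {n m : ℕ} (h : n ≤ m) : powQuot I M m ⟶ powQuot I M n :=
  ShortComplex.homMk (powIncl I M h) (𝟙 _) (ModuleCat.ofHom (AdicCompletion.transitionMap I M h))
    (ModuleCat.hom_ext (LinearMap.ext fun _ => rfl)) (ModuleCat.hom_ext (LinearMap.ext fun _ => rfl))

variable [IsNoetherianRing A] [Module.Finite A M] {I M} {ω : Dual.D A} (hω : Dual.IsDualizing A ω) {d s : ℕ}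
  {T : Set (PrimeSpectrum A)} (S : Cond I d s M T)

include hω S in
/-- Classes on a deep quotient lift to `M` modulo a shallower one. -/
theorem exists_lift (i : ℕ) (hi : i ≤ s) (n : ℕ) :
    ∃ (m : ℕ) (h : n ≤ m), ∀ (k : ℕ) (hk : m ≤ k) (x : (HF T i).obj (powQuot I M k).X₃),
      ∃ z : (HF T i).obj (ModuleCat.of A M), (HF T i).map (powQuot I M n).g z =
        (HF T i).map (powQuotMap I M (h.trans hk)).τ₃ x := by
  obtain ⟨m, h, hz⟩ := exists_HT_map_zero hω S (i + 1) (by omega) n
  refine ⟨m, h, fun k hk x => exists_of_HT_δ_eq_zero (powQuot_shortExact I M n) ?_⟩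
  rw [← HT_δ_naturality (powQuot_shortExact I M k) (powQuot_shortExact I M n) (powQuotMap I M (h.trans hk))]
  exact hz k hk _

include hω S in
/-- The image of a deep power in `H^i_T(M)` is zero. -/
theorem exists_f_zero (i : ℕ) (hi : i ≤ s + 1) :
    ∃ m : ℕ, ∀ (k : ℕ), m ≤ k → ∀ x : (HF T i).obj (powQuot I M k).X₁, (HF T i).map (powQuot I M k).f x = 0 := by
  obtain ⟨m, h, hz⟩ := exists_HT_map_zero hω S i hi 0
  refine ⟨m, fun k hk x => ?_⟩
  have hf : (powQuot I M k).f = powIncl I M (h.trans hk) ≫ (powQuot I M 0).f := rfl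
  refine (congrArg (fun φ => (HF T i).map φ x) hf).trans ?_
  refine (ConcreteCategory.congr_hom ((HF T i).map_comp (powIncl I M (h.trans hk)) (powQuot I M 0).f) x).trans ?_
  show (HF T i).map (powQuot I M 0).f ((HF T i).map (powIncl I M (h.trans hk)) x) = 0
  rw [hz k hk x]
  exact map_zero ((HF T i).map (powQuot I M 0).f).hom

end GrothLib.BootUnif3
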