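import Groth.Agent.Lib.BootUnif3.Strata
import Groth.Agent.Lib.LCSupp3.Main

/-!
# Vanishing with supports from dying at each point
-/

set_option autoImplicit false
set_option linter.style.haveILetI false
set_option linter.unusedSectionVars false

universe u

open CategoryTheory Limits Opposite Abelian PrimeSpectrum GrothLib.LCSupp3

namespace GrothLib.BootUnif3

variable {R : Type u} [CommRing R] [IsNoetherianRing R] {M M' M'' : ModuleCat.{u} R} {T : Set (PrimeSpectrum R)} {i : ℕ}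

open GrothLib.LCSupp in
theorem map_eq_zero_step_of_dies (hT : StableUnderSpecialization T) (f : M ⟶ M') (g : M' ⟶ M'')
    (hloc : ∀ p ∈ T, p ∉ nonMin T → ∀ J : Ideal R, p.asIdeal ∈ J.minimalPrimes → Dies J p i f)
    (hg : ∀ y : (HF (nonMin T) i).obj M', (HF (nonMin T) i).map g y = 0)
    (x : (HF T i).obj M) : (HF T i).map g ((HF T i).map f x) = 0 := by
  classical
  obtain ⟨J, hJ, e, rfl⟩ := exists_toHT x
  have hJ1 : J ^ 1 ≤ J := (pow_one J).le
  let e1 : Ext (GrothLib.LC.quotPow J 1) M i := (Ext.mk₀ (quotMap hJ1)).comp e (zero_add i)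
  have hx : toHT i J hJ M e = toHT i (J ^ 1) (mem_pow hJ 1) M e1 := (toHT_restrict (mem_pow hJ 1) hJ1 e).symm
  let y : (localCohomology J i).obj M' := (localCohomology J i).map f (GrothLib.LC.toH J i 1 M e1)
  let Ann : Ideal R := (Submodule.span R {y}).annihilator
  let P : Finset (Ideal R) := (Ideal.finite_minimalPrimes_of_isNoetherianRing R J).toFinset.filter
    fun p => ∃ h : p.IsPrime, (⟨p, h⟩ : PrimeSpectrum R) ∉ nonMin T
  obtain ⟨s, hsA, hsP⟩ : ∃ s ∈ Ann, ∀ p ∈ P, s ∉ p := by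
    by_contra hc
    push Not at hc
    have hsub : (Ann : Set R) ⊆ ⋃ p ∈ (↑P : Set (Ideal R)), (p : Set R) := fun a ha => by
      obtain ⟨p, hp, hap⟩ := hc a ha
      exact Set.mem_biUnion hp hap
    obtain ⟨p, hp, hle⟩ := (Ideal.subset_union_prime (f := id) ⊤ ⊤ fun p hp _ _ =>
      ((Finset.mem_filter.1 hp).2).1).1 hsub
    obtain ⟨hpm, hpp, hpn⟩ := Finset.mem_filter.1 hp
    rw [Set.Finite.mem_toFinset] at hpm
    have hpT : (⟨p, hpp⟩ : PrimeSpectrum R) ∈ T := hJ hpm.1.2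
    obtain ⟨t, ht, hty⟩ := hloc _ hpT hpn J hpm (GrothLib.LC.toH J i 1 M e1)
    exact ht (hle ((Submodule.mem_annihilator_span_singleton y t).2 hty))
  have hsy : s • y = 0 := (Submodule.mem_annihilator_span_singleton y s).1 hsA
  let J' := J ⊔ Ideal.span {s}
  have hJ' : zeroLocus (J' : Set R) ⊆ nonMin T := fun q hq => by
    have hle : J ≤ q.asIdeal := le_sup_left.trans hq
    have hsq : s ∈ q.asIdeal := hq (Ideal.mem_sup_right (Ideal.mem_span_singleton_self s))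
    by_contra hn
    have hmin : q.asIdeal ∈ J.minimalPrimes := ⟨⟨q.2, hle⟩, fun r hr hrq => by
      by_contra hne
      exact hn ⟨hJ hle, ⟨r, hr.1⟩, hJ hr.2, lt_of_le_not_ge hrq hne⟩⟩
    exact hsP _ (Finset.mem_filter.2 ⟨(Set.Finite.mem_toFinset _).2 hmin, q.2, hn⟩) hsq
  obtain ⟨z, hz⟩ := (GrothLib.LC.mem_range_hmap_iff J s M' i y).2 ⟨1, by rwa [pow_one]⟩
  obtain ⟨n, e'', rfl⟩ := GrothLib.LC.exists_toH J' z
  rw [GrothLib.LC.hmap_toH] at hz
  have hy : y = GrothLib.LC.toH J i 1 M' (e1.comp (Ext.mk₀ f) (add_zero i)) := GrothLib.LC.map_toH _ f e1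
  obtain ⟨k, hnk, h1k, hk⟩ := (GrothLib.LC.toH_eq_toH_iff J _ _).1 (hz.trans hy)
  have hq : ∀ {a b : ℕ} (h : a ≤ b), GrothLib.LC.quotMap J h = quotMap (Ideal.pow_le_pow_right h) := fun h =>
    ModuleCat.hom_ext (Submodule.linearMap_qext _ (LinearMap.ext fun _ => rfl))
  have hn' : J ^ n ≤ J' ^ n := Ideal.pow_right_mono le_sup_left n
  have hq' : GrothLib.LC.quotLE (le_sup_left : J ≤ J') n = quotMap hn' :=
    ModuleCat.hom_ext (Submodule.linearMap_qext _ (LinearMap.ext fun _ => rfl))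
  rw [hq, hq] at hk
  have hfx : (HF T i).map f (toHT i J hJ M e) =
      toHT i (J' ^ n) ((mem_pow hJ' n).trans (nonMin_subset T)) M' e'' := by
    rw [hx, map_toHT, ← toHT_restrict (mem_pow hJ n) hn' e'', ← hq']
    exact ((toHT_eq_toHT_iff _ _).2 ⟨J ^ k, mem_pow hJ k, Ideal.pow_le_pow_right hnk,
      Ideal.pow_le_pow_right h1k, hk⟩).symm
  rw [hfx, map_toHT]
  have h0 := hg (toHT i (J' ^ n) (mem_pow hJ' n) M' e'')
  rw [map_toHT, toHT_eq_zero_iff] at h0
  obtain ⟨K, hK, hKle, hK0⟩ := h0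
  exact (toHT_eq_zero_iff _).2 ⟨K, hK.trans (nonMin_subset T), hKle, hK0⟩

/-- Vanishing with supports from dying at each point. -/
theorem map_eq_zero_of_dies {F : ℕ → Type u} [∀ n, AddCommGroup (F n)] [∀ n, Module R (F n)]
    (φ : ∀ k m : ℕ, m ≤ k → (F k →ₗ[R] F m))
    (hφ : ∀ (k l m : ℕ) (h₁ : m ≤ l) (h₂ : l ≤ k), φ k m (h₁.trans h₂) = φ l m h₁ ∘ₗ φ k l h₂)
    (m' : ℕ → ℕ) (hm' : ∀ m, m ≤ m' m) (i : ℕ) :
    ∀ (n : ℕ) (T : Set (PrimeSpectrum R)), StableUnderSpecialization T → (∀ l : LTSeries ↥T, l.length < n) →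
      (∀ p ∈ T, ∀ (m k : ℕ) (h : m ≤ k), m' m ≤ k →
        ∀ J : Ideal R, p.asIdeal ∈ J.minimalPrimes → Dies J p i (ModuleCat.ofHom (φ k m h))) →
      ∀ (m k : ℕ) (h : m ≤ k), (m'^[n]) m ≤ k → ∀ x : (GrothLib.LCSupp.HF T i).obj (ModuleCat.of R (F k)),
        (GrothLib.LCSupp.HF T i).map (ModuleCat.ofHom (φ k m h)) x = 0 := by
  intro n
  induction n with
  | zero =>
    intro T hT hlen hloc m k h hk x
    have hTe : ∀ p, p ∉ T := fun p hp =>
      Nat.not_lt_zero _ (hlen (RelSeries.singleton _ ⟨p, hp⟩))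
    obtain ⟨J, hJ, hJx⟩ := GrothLib.LCSupp.exists_killer x
    have hJtop : J = ⊤ := by
      by_contra hne
      obtain ⟨𝔪, h𝔪, hle⟩ := J.exists_le_maximal hne
      exact hTe _ (hJ (show (J : Set R) ⊆ (⟨𝔪, h𝔪.isPrime⟩ : PrimeSpectrum R).asIdeal from hle))
    have h1 := hJx 1 (hJtop ▸ Submodule.mem_top)
    rw [one_smul] at h1
    rw [h1, map_zero]
  | succ n ih =>
    intro T hT hlen hloc m k h hk x
    let l := (m'^[n]) m
    have hml : m ≤ l := Function.id_le_iterate_of_id_le hm' n m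
    have hlk : m' l ≤ k := by rwa [Function.iterate_succ_apply'] at hk
    have hcomp : ModuleCat.ofHom (φ k m h) =
        ModuleCat.ofHom (φ k l ((hm' l).trans hlk)) ≫ ModuleCat.ofHom (φ l m hml) := by
      rw [hφ k l m hml ((hm' l).trans hlk)]; rfl
    rw [hcomp, Functor.map_comp]
    refine map_eq_zero_step_of_dies hT _ _ (fun p hp _ => hloc p hp l k _ hlk) (fun y => ?_) x
    refine ih (nonMin T) (stable_nonMin hT) (fun s => ?_) (fun p hp => hloc p hp.1) m l hml le_rfl y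
    obtain ⟨q, hq, hqh⟩ := s.head.2.2
    let s' : LTSeries ↥T := LTSeries.map s (fun p => (⟨p.1, p.2.1⟩ : ↥T)) fun a b hab => hab
    have := hlen (RelSeries.cons s' ⟨q, hq⟩ hqh)
    simpa [s'] using this

theorem length_lt_of_finite_dim (h : ringKrullDim R < ⊤) : ∃ e : ℕ, ∀ l : LTSeries ↥T, l.length < e := by
  obtain ⟨e, he⟩ : ∃ e : ℕ, ringKrullDim R ≤ (e : WithBot ℕ∞) := by
    generalize ringKrullDim R = z at h
    induction z with
    | bot => exact ⟨0, bot_le⟩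
    | coe z =>
      induction z using ENat.recTopCoe with
      | top => exact absurd h (lt_irrefl _)
      | coe e => exact ⟨e, le_rfl⟩
  exact ⟨e + 1, fun l => GrothLib.LCSupp3.length_lt_of_krullDim_le
    ((Order.krullDim_le_of_strictMono Subtype.val fun _ _ h => h).trans he) l⟩

end GrothLib.BootUnif3
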