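import Groth.Agent.Lib.DerComplBij3.Top
import Groth.Agent.Lib.LC.Torsion
import Groth.Agent.Lib.LC.RightExact
import Mathlib.RingTheory.Ideal.AssociatedPrime.Finiteness

/-!
# Vanishing of local cohomology from the dimensions of the support
-/

set_option autoImplicit false
set_option linter.style.haveILetI false
set_option linter.unusedSectionVars false

universe u

open CategoryTheory IsLocalRing GrothLib.LC

namespace GrothLib.BootUnif3

variable {B : Type u} [CommRing B] [IsNoetherianRing B] [IsLocalRing B] (I : Ideal B) [IsAdicComplete I B]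

/-- Over a ring complete along `I`, local cohomology of degree `p + 1` vanishes when every prime of the support
outside `V(I)` has small dimension. -/
theorem subsingleton_H_of_support (p : ℕ) (H : Type u) [AddCommGroup H] [Module B H] [hH : Module.Finite B H] :
    (∀ P : PrimeSpectrum B, P ∈ Module.support B H → ¬ I ≤ P.asIdeal → ∃ e : ℕ, ringKrullDim (B ⧸ P.asIdeal) = e ∧
      (e ≤ p ∨ e = p + 1 ∧ ∃ r : Ideal B, r.IsPrime ∧ P.asIdeal ≤ r ∧ I ≤ r ∧ r ≠ maximalIdeal B)) →
    Subsingleton ((localCohomology I (p + 1)).obj (ModuleCat.of B H)) := by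
  induction hH using IsNoetherianRing.induction_on_isQuotientEquivQuotientPrime B with
  | subsingleton N =>
    intro _
    exact subsingleton_of_isPowerTorsion I p _ fun x => ⟨0, fun a _ => Subsingleton.elim _ _⟩
  | quotient N P e =>
    intro h
    haveI := P.2
    haveI : Nontrivial (B ⧸ P.1) := Ideal.Quotient.nontrivial_iff.2 P.2.ne_top
    suffices hs : Subsingleton ((localCohomology I (p + 1)).obj (ModuleCat.of B (B ⧸ P.1))) from
      ((localCohomology I (p + 1)).mapIso e.toModuleIso).toLinearEquiv.toEquiv.subsingleton_congr.2 hs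
    by_cases hIP : I ≤ P.1
    · exact subsingleton_of_isPowerTorsion I p _ fun x => ⟨1, fun a ha => by
        obtain ⟨x, rfl⟩ := Submodule.Quotient.mk_surjective _ x
        rw [← Submodule.Quotient.mk_smul, Submodule.Quotient.mk_eq_zero]
        rw [pow_one] at ha
        exact Ideal.mul_mem_right x _ (hIP ha)⟩
    obtain ⟨n, hn, hcase⟩ := h P (by
      rw [e.support_eq, Module.mem_support_iff_of_finite, Ideal.annihilator_quotient]) hIP
    rcases hcase with hle | ⟨rfl, r, hr, hPr, hIr, hrm⟩
    · refine (GrothLib.LC.subsingleton_map_iff (R' := B ⧸ P.1) I (p + 1) (B ⧸ P.1)).1 ?_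
      exact GrothLib.LC.cdLE_dim _ n hn.le (B ⧸ P.1) (p + 1) (by omega)
    · haveI := hr
      exact GrothLib.DerComplBij3.subsingleton_top I P.1 r hPr hIr hrm (p + 1) hn I fun _ _ _ => Iff.rfl
  | exact N₁ N₂ N₃ f g hf hg hfg h₁ h₃ =>
    intro h
    have hS : (ShortComplex.mk (X₁ := ModuleCat.of B N₁) (X₂ := ModuleCat.of B N₂) (X₃ := ModuleCat.of B N₃)
        (ModuleCat.ofHom f) (ModuleCat.ofHom g) (ModuleCat.hom_ext hfg.linearMap_comp_eq_zero)).ShortExact :=
      { exact := (ShortComplex.moduleCat_exact_iff _).2 fun x hx => (hfg x).1 hx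
        mono_f := (ModuleCat.mono_iff_injective _).2 hf
        epi_g := (ModuleCat.epi_iff_surjective _).2 hg }
    exact GrothLib.LC.subsingleton₂ I hS (p + 1)
      (h₁ fun P hP => h P (Module.support_subset_of_injective f hf hP))
      (h₃ fun P hP => h P (Module.support_subset_of_surjective g hg hP))

end GrothLib.BootUnif3
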