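import Groth.Agent.Lib.BootUnif3.Num
import Groth.Agent.Lib.BootUnif3.Vanish
import Groth.Agent.Lib.BootUnif3.Cx
import Groth.Agent.Lib.Bootstrap.Between
import Groth.Agent.Lib.AlgzBoot3.Basic
import Groth.Agent.Lib.LC.FlatBC
import Groth.Agent.Lib.AdicExtra.Local

/-!
# The vanishing near a point of the support set
-/

set_option autoImplicit false
set_option linter.style.haveILetI false
set_option linter.unusedSectionVars false

universe u

open CategoryTheory TensorProduct IsLocalRing GrothLib.DualRing GrothLib.DualCx22 PrimeSpectrum GrothLib.LC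

attribute [local instance] HasDerivedCategory.standard

namespace GrothLib.BootUnif3

variable {A : Type u} [CommRing A] [IsNoetherianRing A]

/-- With cohomological dimension zero, `V(I)` is stable under generization. -/
theorem le_of_cdLE_zero (I : Ideal A) (hcd : LocCoh.CdLE A I 0) (p q : Ideal A) [p.IsPrime] [q.IsPrime] (hpq : p ≤ q)
    (hIq : I ≤ q) : I ≤ p := by
  suffices key : ∀ p : Ideal A, p.IsPrime → p ≤ q → I ≤ p from key p inferInstance hpq
  clear hpq
  intro p
  induction p using WellFoundedGT.induction with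
  | _ p ih =>
  intro hp hpq
  haveI := hp
  by_contra hIp
  obtain ⟨f, hfI, hfp⟩ := SetLike.not_le_iff_exists.1 hIp
  let m : A ⧸ p →ₗ[A] A ⧸ p := f • LinearMap.id
  have hm : Function.Injective m := (injective_iff_map_eq_zero _).2 fun y hy => by
    obtain ⟨y, rfl⟩ := Submodule.mkQ_surjective _ y
    change f • (Submodule.Quotient.mk (p := p) y : A ⧸ p) = 0 at hy
    rw [← Submodule.Quotient.mk_smul, Submodule.Quotient.mk_eq_zero] at hy
    exact (Submodule.Quotient.mk_eq_zero _).2 ((hp.mem_or_mem hy).resolve_left hfp)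
  let Q := (A ⧸ p) ⧸ LinearMap.range m
  have hS : (ShortComplex.mk (X₁ := ModuleCat.of A (A ⧸ p)) (X₂ := ModuleCat.of A (A ⧸ p)) (X₃ := ModuleCat.of A Q)
      (ModuleCat.ofHom m) (ModuleCat.ofHom (LinearMap.range m).mkQ)
      (ModuleCat.hom_ext (LinearMap.range_mkQ_comp m))).ShortExact :=
    { exact := (ShortComplex.moduleCat_exact_iff _).2 fun x hx => (Submodule.Quotient.mk_eq_zero _).1 hx
      mono_f := (ModuleCat.mono_iff_injective _).2 hm
      epi_g := (ModuleCat.epi_iff_surjective _).2 (Submodule.mkQ_surjective _) }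
  let K : Ideal A := p ⊔ Ideal.span {f}
  obtain ⟨r, hr, hrq⟩ := Ideal.exists_minimalPrimes_le (show K ≤ q from
    sup_le hpq ((Ideal.span_singleton_le_iff_mem _).2 (hIq hfI)))
  haveI := hr.1.1
  have hplt : p < r := lt_of_le_of_ne (le_sup_left.trans hr.1.2) fun e => hfp (by
    rw [e]
    exact hr.1.2 (Ideal.mem_sup_right (Ideal.mem_span_singleton_self f)))
  have hIr : I ≤ r := ih r hplt inferInstance hrq
  have hann : Module.annihilator A Q = K := by
    refine le_antisymm (fun a ha => ?_) (sup_le (fun a ha => ?_) ?_)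
    · obtain ⟨y, hy⟩ := (Submodule.Quotient.mk_eq_zero (LinearMap.range m)).1
        (Module.mem_annihilator.1 ha (Submodule.Quotient.mk (Submodule.Quotient.mk (p := p) (1 : A))))
      obtain ⟨y, rfl⟩ := Submodule.mkQ_surjective _ y
      change f • (Submodule.Quotient.mk (p := p) y : A ⧸ p) = a • Submodule.Quotient.mk (1 : A) at hy
      rw [← Submodule.Quotient.mk_smul, ← Submodule.Quotient.mk_smul, Submodule.Quotient.eq] at hy
      simp only [smul_eq_mul, mul_one] at hy
      have : a = -(f * y - a) + y * f := by ring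
      rw [this]
      exact add_mem (Ideal.mem_sup_left (neg_mem hy))
        (Ideal.mem_sup_right (Ideal.mul_mem_left _ _ (Ideal.mem_span_singleton_self f)))
    · refine Module.mem_annihilator.2 fun z => ?_
      obtain ⟨z, rfl⟩ := Submodule.mkQ_surjective _ z
      obtain ⟨z, rfl⟩ := Submodule.mkQ_surjective _ z
      rw [← map_smul, ← map_smul, Submodule.mkQ_apply p, (Submodule.Quotient.mk_eq_zero p).2
        (show a • z ∈ p from Ideal.mul_mem_right z _ ha), map_zero]
    · rw [Ideal.span_singleton_le_iff_mem]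
      refine Module.mem_annihilator.2 fun z => ?_
      obtain ⟨z, rfl⟩ := Submodule.mkQ_surjective _ z
      rw [← map_smul]
      exact (Submodule.Quotient.mk_eq_zero _).2 ⟨z, rfl⟩
  have hass : r ∈ associatedPrimes A Q :=
    Module.associatedPrimes.minimalPrimes_annihilator_subset_associatedPrimes A Q (hann ▸ hr)
  obtain ⟨-, x, hx⟩ := (isAssociatedPrime_iff_exists_injective_linearMap r Q).1 hass
  let v : Q := x (Submodule.Quotient.mk 1)
  have hv : v ≠ 0 := fun h => (Ideal.ne_top_iff_one r).1 (Ideal.IsPrime.ne_top inferInstance)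
    ((Submodule.Quotient.mk_eq_zero r).1 (hx (h.trans (map_zero x).symm)))
  have hvt : v ∈ DRing.torsionSub I Q := ⟨1, fun a ha => by
    rw [pow_one] at ha
    show a • x (Submodule.Quotient.mk 1) = 0
    rw [← map_smul, ← Submodule.Quotient.mk_smul, smul_eq_mul, mul_one, (Submodule.Quotient.mk_eq_zero r).2 (hIr ha),
      map_zero]⟩
  haveI : Subsingleton ((localCohomology I 1).obj (ModuleCat.of A (A ⧸ p))) := hcd _ 1 one_pos
  haveI : Subsingleton ((localCohomology I 0).obj (ModuleCat.of A (A ⧸ p))) := by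
    refine (torsionEquiv I (ModuleCat.of A (A ⧸ p))).symm.toEquiv.subsingleton_congr.2
      (subsingleton_of_forall_eq 0 fun w => Subtype.ext ?_)
    obtain ⟨w, n, hn⟩ := w
    obtain ⟨w, rfl⟩ := Submodule.Quotient.mk_surjective _ w
    have h1 : f ^ n • (Submodule.Quotient.mk w : A ⧸ p) = 0 := hn _ (Ideal.pow_mem_pow hfI n)
    rw [← Submodule.Quotient.mk_smul, Submodule.Quotient.mk_eq_zero] at h1
    exact (Submodule.Quotient.mk_eq_zero _).2 ((hp.mem_or_mem h1).resolve_left fun h => hfp (hp.mem_of_pow_mem n h))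
  haveI := GrothLib.LC.subsingleton₃ I hS 0 inferInstance inferInstance
  exact hv (congrArg Subtype.val ((torsionEquiv I (ModuleCat.of A Q)).injective
    (Subsingleton.elim (α := (localCohomology I 0).obj (ModuleCat.of A Q)) (torsionEquiv I _ ⟨v, hvt⟩) (torsionEquiv I _ 0))))

/-- The hypotheses (4) and (6) of the bootstrap. -/
structure Cond (I : Ideal A) (d s : ℕ) (M : Type u) [AddCommGroup M] [Module A M] (T : Set (PrimeSpectrum A)) : Prop where
  cd : LocCoh.CdLE A I d
  le : T ⊆ zeroLocus (I : Set A)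
  stable : StableUnderSpecialization T
  h4 : ∀ p r q : PrimeSpectrum A, p ≤ r → r ≤ q → ¬ I ≤ p.asIdeal → I ≤ r.asIdeal → r ∉ T → q ∈ T →
    (s : ℕ∞) ≤ LocCoh.depth (Localization.AtPrime p.asIdeal) (LocalizedModule p.asIdeal.primeCompl M) ∨
      ((d + s : ℕ) : WithBot ℕ∞) < (LocCoh.depth (Localization.AtPrime p.asIdeal) (LocalizedModule p.asIdeal.primeCompl M) : WithBot ℕ∞) +
        Formal2.dimBetween A p.asIdeal q.asIdeal
  h6 : ∀ q : PrimeSpectrum A, q ∈ T →
    ∀ p' : PrimeSpectrum (AdicCompletion (I.map (algebraMap A (Localization.AtPrime q.asIdeal))) (Localization.AtPrime q.asIdeal)),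
    ¬ (I.map (algebraMap A (AdicCompletion (I.map (algebraMap A (Localization.AtPrime q.asIdeal))) (Localization.AtPrime q.asIdeal)))) ≤ p'.asIdeal →
    (∀ q' : PrimeSpectrum (AdicCompletion (I.map (algebraMap A (Localization.AtPrime q.asIdeal))) (Localization.AtPrime q.asIdeal)), p' ≤ q' →
      (I.map (algebraMap A (AdicCompletion (I.map (algebraMap A (Localization.AtPrime q.asIdeal))) (Localization.AtPrime q.asIdeal)))) ≤ q'.asIdeal →
      q'.asIdeal.IsMaximal) →
    (s : ℕ∞) < LocCoh.depth (Localization.AtPrime p'.asIdeal) (LocalizedModule p'.asIdeal.primeCompl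
      (AdicCompletion (I.map (algebraMap A (Localization.AtPrime q.asIdeal))) (LocalizedModule q.asIdeal.primeCompl M)))

variable {ω : Dual.D A} (hω : Dual.IsDualizing A ω) {I : Ideal A} {d s : ℕ}
  {M : Type u} [AddCommGroup M] [Module A M] [Module.Finite A M] {T : Set (PrimeSpectrum A)}
  (S : Cond I d s M T) (N : Type u) [AddCommGroup N] [Module A N] [Module.Finite A N]
  (hNM : ∀ p : PrimeSpectrum A, ¬ I ≤ p.asIdeal →
    LocCoh.depth (Localization.AtPrime p.asIdeal) (LocalizedModule p.asIdeal.primeCompl N) =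
      LocCoh.depth (Localization.AtPrime p.asIdeal) (LocalizedModule p.asIdeal.primeCompl M))

include hω hNM in
/-- What membership in the support of a dual says outside `V(I)`. -/
theorem depth_add_deg_le {q p : PrimeSpectrum A} (k : ℕ) (hIp : ¬ I ≤ p.asIdeal)
    (hp : p ∈ Module.support A (EH ω (Dual.inD A N) (deg hω q.asIdeal - k))) :
    ∃ a : ℕ, LocCoh.depth (Localization.AtPrime p.asIdeal) (LocalizedModule p.asIdeal.primeCompl M) = a ∧
      (a : ℤ) + (deg hω q.asIdeal - deg hω p.asIdeal) ≤ k := by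
  obtain ⟨a, ha, -, hle, -⟩ := exists_degrees hω p N (GrothLib.AlgzBoot3.mem_support_of_EH N hp)
  exact ⟨a, (hNM p hIp).symm.trans ha, by have := hle _ hp; omega⟩

include hω S hNM in
/-- In degrees at most `s + 1` the dual of `N` is supported in `V(I)` near a point of `T`. -/
theorem le_of_mem_support {q p : PrimeSpectrum A} (hq : q ∈ T) (i : ℕ) (hi : i ≤ s + 1) (hpq : p ≤ q)
    (hp : p ∈ Module.support A (EH ω (Dual.inD A N) (deg hω q.asIdeal - i))) : I ≤ p.asIdeal := by
  by_contra hIp
  obtain ⟨a, ha, hai⟩ := depth_add_deg_le hω N hNM i hIp hp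
  have hlt : deg hω p.asIdeal < deg hω q.asIdeal :=
    degS_strictMono hω (lt_of_le_of_ne hpq fun e => hIp (e ▸ S.le hq))
  by_cases hr : ∀ r : PrimeSpectrum A, p ≤ r → r ≤ q → I ≤ r.asIdeal → r ∈ T
  · have h := GrothLib.Bootstrap.depth_gt_of_between I M T S.le s S.h6 p q hpq hIp hq hr
    rw [ha] at h
    have : s < a := by exact_mod_cast h
    omega
  push Not at hr
  obtain ⟨r, hpr, hrq, hIr, hrT⟩ := hr
  have h1 : deg hω p.asIdeal < deg hω r.asIdeal :=
    degS_strictMono hω (lt_of_le_of_ne hpr fun e => hIp (e ▸ hIr))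
  have h2 : deg hω r.asIdeal < deg hω q.asIdeal :=
    degS_strictMono hω (lt_of_le_of_ne hrq fun e => hrT (e ▸ hq))
  rcases S.h4 p r q hpr hrq hIp hIr hrT hq with h | h
  · rw [ha] at h
    have : s ≤ a := by exact_mod_cast h
    omega
  · rw [ha, GrothLib.AlgzBoot3.dimBetween_deg hω hpq] at h
    have h' : d + s < a + (deg hω q.asIdeal - deg hω p.asIdeal).toNat := by exact_mod_cast h
    have hd : d = 0 := by omega
    subst hd
    exact hIp (le_of_cdLE_zero I S.cd p.asIdeal q.asIdeal hpq (S.le hq))

include hω S hNM in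
/-- Higher local cohomology of the low duals dies near a point of `T`. -/
theorem dead_H_dual {q : PrimeSpectrum A} (hq : q ∈ T) (p k : ℕ) (hk : k ≤ s + p + 2) (H : Type u) [AddCommGroup H]
    [Module A H] [Module.Finite A H] (eH : Nonempty (H ≃ₗ[A] EH ω (Dual.inD A N) (deg hω q.asIdeal - k))) :
    Dead q.asIdeal ((localCohomology I (p + 2)).obj (ModuleCat.of A H)) := by
  by_cases hdp : d < p + 2
  · haveI : Subsingleton ((localCohomology I (p + 2)).obj (ModuleCat.of A H)) := S.cd H (p + 2) hdp
    exact Dead.of_subsingleton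
  obtain ⟨eH⟩ := eH
  let R := Localization.AtPrime q.asIdeal
  let IR := I.map (algebraMap A R)
  let B := AdicCompletion IR R
  haveI : IsNoetherianRing R := IsLocalization.isNoetherianRing q.asIdeal.primeCompl _ inferInstance
  haveI : IsScalarTower A R B := inferInstance
  have hIRm : IR ≤ maximalIdeal R := by
    rw [← Localization.AtPrime.map_eq_maximalIdeal]
    exact Ideal.map_mono (S.le hq)
  haveI : IsLocalRing B := GrothLib.AdicExtra.isLocalRing_completion (I := IR)
    (ne_top_of_le_ne_top (maximalIdeal.isMaximal R).ne_top hIRm)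
  have hmax : (maximalIdeal R).map (algebraMap R B) = maximalIdeal B :=
    IsLocalRing.eq_maximalIdeal (AdicCompletion.isMaximal_map_of_le IR (maximalIdeal R) hIRm IR.fg_of_isNoetherianRing)
  haveI : IsLocalHom (algebraMap R B) := ((IsLocalRing.local_hom_TFAE _).out 0 2).mpr hmax.le
  haveI : Module.Flat R B := inferInstance
  haveI : Module.FaithfullyFlat R B := Module.FaithfullyFlat.of_flat_of_isLocalHom
  haveI : Module.Flat A B := flat_over_base q
  have hmap : I.map (algebraMap A B) = IR.map (algebraMap R B) := by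
    rw [Ideal.map_map, ← IsScalarTower.algebraMap_eq]
  haveI : IsAdicComplete (I.map (algebraMap A B)) B :=
    hmap ▸ AdicCompletion.isAdicComplete_self IR IR.fg_of_isNoetherianRing
  haveI hsub : Subsingleton ((localCohomology (I.map (algebraMap A B)) (p + 1 + 1)).obj (ModuleCat.of B (B ⊗[A] H))) := by
    refine subsingleton_H_of_support _ (p + 1) (B ⊗[A] H) fun P hP hIP => ?_
    let p0 : PrimeSpectrum A := PrimeSpectrum.comap (algebraMap A B) P
    have hIp0 : ¬ I ≤ p0.asIdeal := fun h => hIP (Ideal.map_le_iff_le_comap.2 h)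
    have hp0 : p0 ∈ Module.support A (EH ω (Dual.inD A N) (deg hω q.asIdeal - k)) := by
      rw [← eH.support_eq]
      by_contra hn
      haveI : Subsingleton (LocalizedModule (P.asIdeal.comap (algebraMap A B)).primeCompl H) :=
        Module.notMem_support_iff.1 hn
      exact Module.notMem_support_iff.2 (GrothLib.SkFlat5.subsingleton_tensor_right (A := A) (B := B) H B P.asIdeal) hP
    obtain ⟨a, ha, hak⟩ := depth_add_deg_le hω N hNM k hIp0 hp0
    obtain ⟨δ, e, hδ, he, haδ, hδe⟩ := depth_add_dim_le hω q hmax M P p0 rfl a k ha hak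
    refine ⟨e, he, ?_⟩
    by_cases hcl : ∀ q' : PrimeSpectrum B, P ≤ q' → I.map (algebraMap A B) ≤ q'.asIdeal → q'.asIdeal.IsMaximal
    · left
      have h := S.h6 q hq P hIP hcl
      let eM : B ⊗[A] M ≃ₗ[B] AdicCompletion IR (LocalizedModule q.asIdeal.primeCompl M) :=
        haveI : Module.Finite R (LocalizedModule q.asIdeal.primeCompl M) := Module.Finite.of_isLocalizedModule
          q.asIdeal.primeCompl (LocalizedModule.mkLinearMap q.asIdeal.primeCompl M)
        ((AlgebraTensorModule.cancelBaseChange A R B B M).symm.trans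
          (AlgebraTensorModule.congr (LinearEquiv.refl B B)
            (LocalizedModule.equivTensorProduct q.asIdeal.primeCompl M).symm)).trans
          (AdicCompletion.ofTensorProductEquivOfFiniteNoetherian IR (LocalizedModule q.asIdeal.primeCompl M))
      haveI : Module.Finite B (AdicCompletion IR (LocalizedModule q.asIdeal.primeCompl M)) := Module.Finite.equiv eM
      haveI : Module.Finite (Localization.AtPrime P.asIdeal)
          (LocalizedModule P.asIdeal.primeCompl (AdicCompletion IR (LocalizedModule q.asIdeal.primeCompl M))) :=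
        Module.Finite.of_isLocalizedModule P.asIdeal.primeCompl (LocalizedModule.mkLinearMap P.asIdeal.primeCompl _)
      haveI : Module.Finite (Localization.AtPrime P.asIdeal) (LocalizedModule P.asIdeal.primeCompl (B ⊗[A] M)) :=
        Module.Finite.of_isLocalizedModule P.asIdeal.primeCompl (LocalizedModule.mkLinearMap P.asIdeal.primeCompl _)
      let L := IsLocalizedModule.mapEquiv P.asIdeal.primeCompl
        (LocalizedModule.mkLinearMap P.asIdeal.primeCompl (B ⊗[A] M))
        (LocalizedModule.mkLinearMap P.asIdeal.primeCompl (AdicCompletion IR (LocalizedModule q.asIdeal.primeCompl M)))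
        (Localization.AtPrime P.asIdeal) eM
      have heq := (GrothLib.Depth.idealDepth_eq_of_equiv (IsLocalRing.maximalIdeal _) L).symm
      have h' : (s : ℕ∞) < δ := lt_of_lt_of_eq h (heq.trans hδ)
      have : s < δ := by exact_mod_cast h'
      omega
    push Not at hcl
    obtain ⟨r', hPr, hIr', hr'⟩ := hcl
    have hp0q : p0 ≤ q := comap_le q P.asIdeal
    suffices hcases : s < a ∨ s ≤ a by
      by_cases hep : e ≤ p + 1
      · exact Or.inl hep
      · exact Or.inr ⟨by omega, r'.asIdeal, r'.isPrime, hPr, hIr', fun h => hr' (h ▸ maximalIdeal.isMaximal B)⟩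
    by_cases hr : ∀ r : PrimeSpectrum A, p0 ≤ r → r ≤ q → I ≤ r.asIdeal → r ∈ T
    · left
      have h := GrothLib.Bootstrap.depth_gt_of_between I M T S.le s S.h6 p0 q hp0q hIp0 hq hr
      rw [ha] at h
      exact_mod_cast h
    push Not at hr
    obtain ⟨r, hpr, hrq, hIr, hrT⟩ := hr
    rcases S.h4 p0 r q hpr hrq hIp0 hIr hrT hq with h | h
    · right
      rw [ha] at h
      exact_mod_cast h
    · exfalso
      rw [ha, GrothLib.AlgzBoot3.dimBetween_deg hω hp0q] at h
      have h' : d + s < a + (deg hω q.asIdeal - deg hω p0.asIdeal).toNat := by exact_mod_cast h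
      have hdeg : deg hω p0.asIdeal ≤ deg hω q.asIdeal := (degS_strictMono hω).monotone hp0q
      omega
  let X := (localCohomology I (p + 2)).obj (ModuleCat.of A H)
  obtain ⟨e₀⟩ := GrothLib.LC.nonempty_baseChange_equiv (R' := B) I (p + 2) H
  haveI : Subsingleton (B ⊗[A] X) := e₀.toEquiv.subsingleton_congr.2 hsub
  haveI : Subsingleton (B ⊗[R] (R ⊗[A] X)) :=
    (AlgebraTensorModule.cancelBaseChange A R B B X).toEquiv.subsingleton_congr.2 inferInstance
  haveI : Subsingleton (R ⊗[A] X) := Module.FaithfullyFlat.lTensor_reflects_triviality R B (R ⊗[A] X)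
  intro v
  haveI : IsLocalizedModule q.asIdeal.primeCompl (TensorProduct.mk A R X 1) :=
    (isLocalizedModule_iff_isBaseChange q.asIdeal.primeCompl R _).2 (TensorProduct.isBaseChange A X R)
  obtain ⟨t, ht⟩ := (IsLocalizedModule.eq_zero_iff q.asIdeal.primeCompl (TensorProduct.mk A R X 1)).1
    (Subsingleton.elim (TensorProduct.mk A R X 1 v) 0)
  exact ⟨t, t.2, ht⟩

end GrothLib.BootUnif3
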