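import Groth.Agent.Lib.SkFlat5.Main
import Groth.Agent.Lib.DualRing.Dimension
import Groth.Agent.Lib.FaltingsT3.Main
import Groth.Agent.Lib.Depth.CM
import Groth.Agent.S2598

/-!
# Depth and dimension along a flat local algebra over a local ring with trivial closed fibre
-/

set_option autoImplicit false
set_option linter.style.haveILetI false
set_option linter.unusedSectionVars false

universe u

open CategoryTheory TensorProduct IsLocalRing GrothLib.DualRing GrothLib.DepthAlong5 PrimeSpectrum

attribute [local instance] HasDerivedCategory.standard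

namespace GrothLib.BootUnif3

theorem supportDim_localization_add_le {B : Type u} [CommRing B] (Y : Type u) [AddCommGroup Y] [Module B Y]
    [Module.Finite B Y] (P : PrimeSpectrum B) (hP : P ∈ Module.support B Y) :
    Module.supportDim (Localization.AtPrime P.asIdeal) (LocalizedModule P.asIdeal.primeCompl Y) +
      ringKrullDim (B ⧸ P.asIdeal) ≤ Module.supportDim B Y := by
  let S := Module.support B Y
  let a : S := ⟨P, hP⟩
  let BP := Localization.AtPrime P.asIdeal
  let YP := LocalizedModule P.asIdeal.primeCompl Y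
  have h1 : Module.supportDim BP YP ≤ Order.krullDim (Set.Iic a) := by
    refine Order.krullDim_le_of_strictMono (fun x : Module.support BP YP =>
      (⟨⟨PrimeSpectrum.comap (algebraMap B BP) x.1, ?_⟩, ?_⟩ : Set.Iic a)) ?_
    · haveI : Module.Finite BP YP := Module.Finite.of_isLocalizedModule P.asIdeal.primeCompl
        (LocalizedModule.mkLinearMap P.asIdeal.primeCompl Y)
      rw [Module.mem_support_iff_of_finite]
      intro b hb
      refine Module.mem_support_iff_of_finite.1 x.2 (Module.mem_annihilator.2 fun y => ?_)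
      induction y using LocalizedModule.induction_on with
      | _ y s =>
        rw [algebraMap_smul, LocalizedModule.smul'_mk, Module.mem_annihilator.1 hb y, LocalizedModule.zero_mk]
    · intro c hc
      have := Ideal.comap_mono (f := algebraMap B BP) (IsLocalRing.le_maximalIdeal x.1.2.ne_top) hc
      exact (Localization.AtPrime.under_maximalIdeal (I := P.asIdeal)).le this
    · intro x y hxy
      have hlt : x.1.asIdeal < y.1.asIdeal := hxy
      refine lt_of_le_of_ne (Ideal.comap_mono hlt.le) fun h => hlt.ne ?_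
      have h' : x.1.asIdeal.comap (algebraMap B BP) = y.1.asIdeal.comap (algebraMap B BP) :=
        congrArg (fun z : Set.Iic a => z.1.1.asIdeal) h
      exact ((IsLocalization.map_under P.asIdeal.primeCompl BP x.1.asIdeal).symm.trans
        (congrArg (Ideal.map (algebraMap B BP)) h')).trans (IsLocalization.map_under P.asIdeal.primeCompl BP y.1.asIdeal)
  have h2 : ringKrullDim (B ⧸ P.asIdeal) ≤ Order.krullDim (Set.Ici a) := by
    rw [ringKrullDim_quotient]
    refine Order.krullDim_le_of_strictMono (fun x : PrimeSpectrum.zeroLocus (P.asIdeal : Set B) =>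
      (⟨⟨x.1, Module.mem_support_mono x.2 hP⟩, x.2⟩ : Set.Ici a)) fun x y h => h
  rw [← Order.height_eq_krullDim_Iic] at h1
  rw [← Order.coheight_eq_krullDim_Ici] at h2
  refine (add_le_add h1 h2).trans ?_
  rw [← WithBot.coe_add]
  haveI : Nonempty S := ⟨a⟩
  show _ ≤ Order.krullDim S
  rw [Order.krullDim_eq_iSup_height_add_coheight_of_nonempty]
  exact WithBot.coe_le_coe.2 (le_iSup (fun z : S => Order.height z + Order.coheight z) a)

theorem fib_add_le {A B : Type u} [CommRing A] [IsNoetherianRing A] [CommRing B] [IsNoetherianRing B] [Algebra A B]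
    [Module.Flat A B] (E : Type u) [AddCommGroup E] [Module A E] [Module.Finite A E] (P : PrimeSpectrum B)
    [Nontrivial (LocalizedModule (P.asIdeal.comap (algebraMap A B)).primeCompl E)] :
    LocCoh.depth (Localization.AtPrime P.asIdeal) (GrothLib.SkFlat5.Fib A P.asIdeal B) ≤
        Module.supportDim (Localization.AtPrime P.asIdeal) (GrothLib.SkFlat5.Fib A P.asIdeal B) ∧
      0 ≤ Module.supportDim (Localization.AtPrime P.asIdeal) (GrothLib.SkFlat5.Fib A P.asIdeal B) ∧
      Module.supportDim (Localization.AtPrime P.asIdeal) (GrothLib.SkFlat5.Fib A P.asIdeal B) +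
        ringKrullDim (B ⧸ P.asIdeal) ≤ Module.supportDim B (B ⊗[A] E) := by
  haveI : Nontrivial (LocalizedModule P.asIdeal.primeCompl B) :=
    (IsLocalizedModule.linearEquiv P.asIdeal.primeCompl (LocalizedModule.mkLinearMap P.asIdeal.primeCompl B)
      (Algebra.linearMap B (Localization.AtPrime P.asIdeal))).toEquiv.nontrivial
  obtain ⟨-, h2, h0⟩ := GrothLib.SkFlat5.dep_sdim_tensor (A := A) (B := B) E B P.asIdeal
  haveI : IsNoetherianRing (Localization.AtPrime P.asIdeal) :=
    IsLocalization.isNoetherianRing P.asIdeal.primeCompl _ inferInstance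
  haveI : Nontrivial (GrothLib.SkFlat5.Fib A P.asIdeal B) := by
    by_contra hne
    haveI := not_nontrivial_iff_subsingleton.1 hne
    rw [(Module.supportDim_eq_bot_iff_subsingleton _ _).2 inferInstance] at h0
    exact absurd h0 (by decide)
  have hsd : 0 ≤ sdim (P.asIdeal.comap (algebraMap A B)) E :=
    GrothLib.SkFlat5.supportDim_nonneg (R := Localization.AtPrime (P.asIdeal.comap (algebraMap A B))) _
  refine ⟨GrothLib.Depth.depth_le_supportDim _ _, h0, ?_⟩
  haveI : Module.Finite B (B ⊗[A] E) := inferInstance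
  have hPY : P ∈ Module.support B (B ⊗[A] E) := by
    rw [Module.mem_support_iff]
    refine (Module.supportDim_ne_bot_iff_nontrivial (Localization.AtPrime P.asIdeal) _).1 fun hb => ?_
    change sdim P.asIdeal (B ⊗[A] E) = ⊥ at hb
    rw [hb] at h2
    have h3 : (0 : WithBot ℕ∞) ≤ ⊥ := le_of_le_of_eq (add_nonneg hsd h0) h2.symm
    exact absurd h3 (by decide)
  refine le_trans (add_le_add ?_ le_rfl) (supportDim_localization_add_le (B ⊗[A] E) P hPY)
  show _ ≤ sdim P.asIdeal (B ⊗[A] E)
  rw [h2]
  exact le_add_of_nonneg_left hsd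

variable {A : Type u} [CommRing A] [IsNoetherianRing A] {ω : Dual.D A} (hω : Dual.IsDualizing A ω)

include hω in
theorem supportDim_localized_quotient_le {p q : PrimeSpectrum A} (h : p ≤ q) :
    Module.supportDim (Localization.AtPrime q.asIdeal) (LocalizedModule q.asIdeal.primeCompl (A ⧸ p.asIdeal)) ≤
      (((deg hω q.asIdeal - deg hω p.asIdeal).toNat : ℕ) : WithBot ℕ∞) := by
  let R := Localization.AtPrime q.asIdeal
  let X := LocalizedModule q.asIdeal.primeCompl (A ⧸ p.asIdeal)
  rw [← GrothLib.FaltingsT3.krullDim_Icc hω h]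
  refine Order.krullDim_le_of_strictMono (fun x : Module.support R X =>
    (⟨PrimeSpectrum.comap (algebraMap A R) x.1, ?_, ?_⟩ : Set.Icc p q)) ?_
  · intro c hc
    haveI : Module.Finite R X := Module.Finite.of_isLocalizedModule q.asIdeal.primeCompl
      (LocalizedModule.mkLinearMap q.asIdeal.primeCompl (A ⧸ p.asIdeal))
    refine Module.mem_support_iff_of_finite.1 x.2 (Module.mem_annihilator.2 fun y => ?_)
    induction y using LocalizedModule.induction_on with
    | _ y s =>
      obtain ⟨z, rfl⟩ := Submodule.Quotient.mk_surjective _ y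
      rw [algebraMap_smul, LocalizedModule.smul'_mk, ← Submodule.Quotient.mk_smul,
        (Submodule.Quotient.mk_eq_zero p.asIdeal).2 (show c • z ∈ p.asIdeal from Ideal.mul_mem_right z _ hc),
        LocalizedModule.zero_mk]
  · intro c hc
    have := Ideal.comap_mono (f := algebraMap A R) (IsLocalRing.le_maximalIdeal x.1.2.ne_top) hc
    exact (Localization.AtPrime.under_maximalIdeal (I := q.asIdeal)).le this
  · intro x y hxy
    have hlt : x.1.asIdeal < y.1.asIdeal := hxy
    refine lt_of_le_of_ne (Ideal.comap_mono hlt.le) fun h => hlt.ne ?_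
    have h' : x.1.asIdeal.comap (algebraMap A R) = y.1.asIdeal.comap (algebraMap A R) :=
      congrArg (fun z : Set.Icc p q => z.1.asIdeal) h
    exact ((IsLocalization.map_under q.asIdeal.primeCompl R x.1.asIdeal).symm.trans
      (congrArg (Ideal.map (algebraMap A R)) h')).trans (IsLocalization.map_under q.asIdeal.primeCompl R y.1.asIdeal)

variable (q : PrimeSpectrum A) {B : Type u} [CommRing B] [IsNoetherianRing B] [IsLocalRing B]
  [Algebra (Localization.AtPrime q.asIdeal) B] [Algebra A B] [IsScalarTower A (Localization.AtPrime q.asIdeal) B]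
  [Module.Flat (Localization.AtPrime q.asIdeal) B] [IsLocalHom (algebraMap (Localization.AtPrime q.asIdeal) B)]
  (hmax : (maximalIdeal (Localization.AtPrime q.asIdeal)).map (algebraMap (Localization.AtPrime q.asIdeal) B) =
    maximalIdeal B)

include q in
theorem flat_over_base : Module.Flat A B :=
  haveI : Module.Flat A (Localization.AtPrime q.asIdeal) := IsLocalization.flat _ q.asIdeal.primeCompl
  Module.Flat.trans A (Localization.AtPrime q.asIdeal) B

theorem comap_le (P : Ideal B) [P.IsPrime] : P.comap (algebraMap A B) ≤ q.asIdeal := by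
  intro a ha
  have h2 : algebraMap A (Localization.AtPrime q.asIdeal) a ∈ P.comap (algebraMap (Localization.AtPrime q.asIdeal) B) := by
    show _ ∈ P
    rw [← IsScalarTower.algebraMap_apply]
    exact ha
  have h3 := IsLocalRing.le_maximalIdeal (Ideal.IsPrime.ne_top (Ideal.IsPrime.comap
    (f := algebraMap (Localization.AtPrime q.asIdeal) B) (K := P))) h2
  exact (IsLocalization.AtPrime.to_map_mem_maximal_iff _ q.asIdeal a).1 h3

include hω hmax in
theorem supportDim_base_change_le {p : PrimeSpectrum A} (h : p ≤ q) :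
    Module.supportDim B (B ⊗[A] (A ⧸ p.asIdeal)) ≤
      (((deg hω q.asIdeal - deg hω p.asIdeal).toNat : ℕ) : WithBot ℕ∞) := by
  let R := Localization.AtPrime q.asIdeal
  let X := LocalizedModule q.asIdeal.primeCompl (A ⧸ p.asIdeal)
  haveI : Module.Finite R X := Module.Finite.of_isLocalizedModule q.asIdeal.primeCompl
      (LocalizedModule.mkLinearMap q.asIdeal.primeCompl (A ⧸ p.asIdeal))
  haveI : Nontrivial X := by
    refine Module.mem_support_iff.1 ?_
    rw [Module.mem_support_iff_of_finite, Ideal.annihilator_quotient]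
    exact h
  haveI : IsNoetherianRing R := IsLocalization.isNoetherianRing q.asIdeal.primeCompl _ inferInstance
  let e : B ⊗[A] (A ⧸ p.asIdeal) ≃ₗ[B] B ⊗[R] X :=
    (AlgebraTensorModule.cancelBaseChange A R B B (A ⧸ p.asIdeal)).symm.trans
      (AlgebraTensorModule.congr (LinearEquiv.refl B B)
        (LocalizedModule.equivTensorProduct q.asIdeal.primeCompl (A ⧸ p.asIdeal)).symm)
  rw [Module.supportDim_eq_of_equiv e, Groth.Agent.S2598.result R B X B]
  have hf : Module.supportDim B (EGA4.FibMod R B B) ≤ 0 := by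
    have hle : (maximalIdeal B : Ideal B) ≤ Module.annihilator B (EGA4.FibMod R B B) := fun b hb => by
      rw [Module.mem_annihilator]
      intro y
      obtain ⟨z, rfl⟩ := Submodule.Quotient.mk_surjective _ y
      rw [← Submodule.Quotient.mk_smul, Submodule.Quotient.mk_eq_zero]
      exact Submodule.smul_mem_smul (by rw [EGA4.mB, hmax]; exact hb) Submodule.mem_top
    refine (Order.krullDim_le_of_strictMono (fun _ => (PUnit.unit : PUnit.{1})) fun x y hxy => ?_).trans
      Order.krullDim_eq_zero_of_unique.le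
    have hx : x.1.asIdeal = maximalIdeal B := le_antisymm (le_maximalIdeal x.1.2.ne_top)
      (hle.trans (Module.mem_support_iff_of_finite.1 x.2))
    exact absurd hxy (fun hlt => (lt_of_lt_of_le (show x.1.asIdeal < y.1.asIdeal from hlt)
      (le_maximalIdeal y.1.2.ne_top)).ne hx)
  refine (add_le_add (supportDim_localized_quotient_le hω h) hf).trans ?_
  rw [add_zero]

variable (M : Type u) [AddCommGroup M] [Module A M] [Module.Finite A M]

include hω hmax in
/-- **The numerical bound.** -/
theorem depth_add_dim_le (P : PrimeSpectrum B) (p : PrimeSpectrum A) (hp : P.asIdeal.comap (algebraMap A B) = p.asIdeal)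
    (a k : ℕ) (hdep : LocCoh.depth (Localization.AtPrime p.asIdeal) (LocalizedModule p.asIdeal.primeCompl M) = a)
    (hk : (a : ℤ) + (deg hω q.asIdeal - deg hω p.asIdeal) ≤ k) :
    ∃ δ e : ℕ, LocCoh.depth (Localization.AtPrime P.asIdeal) (LocalizedModule P.asIdeal.primeCompl (B ⊗[A] M)) = δ ∧
      ringKrullDim (B ⧸ P.asIdeal) = e ∧ a ≤ δ ∧ δ + e ≤ k := by
  obtain ⟨pI, hpI⟩ := p
  change P.asIdeal.comap (algebraMap A B) = pI at hp
  subst hp
  let p : PrimeSpectrum A := ⟨_, hpI⟩
  have hpq : p ≤ q := comap_le q P.asIdeal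
  haveI := flat_over_base (A := A) q (B := B)
  let BP := Localization.AtPrime P.asIdeal
  haveI : Nontrivial (LocalizedModule P.asIdeal.primeCompl B) :=
    (IsLocalizedModule.linearEquiv P.asIdeal.primeCompl (LocalizedModule.mkLinearMap P.asIdeal.primeCompl B)
      (Algebra.linearMap B BP)).toEquiv.nontrivial
  haveI : Nontrivial (LocalizedModule (P.asIdeal.comap (algebraMap A B)).primeCompl M) := by
    by_contra hne
    haveI := not_nontrivial_iff_subsingleton.1 hne
    rw [GrothLib.Depth.depth_eq_top_of_subsingleton] at hdep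
    exact ENat.top_ne_coe a hdep
  haveI : Nontrivial (LocalizedModule (P.asIdeal.comap (algebraMap A B)).primeCompl
      (A ⧸ P.asIdeal.comap (algebraMap A B))) := by
    have hmem : p ∈ Module.support A (A ⧸ P.asIdeal.comap (algebraMap A B)) := by
      rw [Module.mem_support_iff_of_finite, Ideal.annihilator_quotient]
    exact Module.mem_support_iff.1 hmem
  obtain ⟨h1, -, -⟩ := GrothLib.SkFlat5.dep_sdim_tensor (A := A) (B := B) M B P.asIdeal
  obtain ⟨hdf, h0, hfib⟩ := fib_add_le (A := A) (B := B) (A ⧸ P.asIdeal.comap (algebraMap A B)) P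
  have hbc : Module.supportDim B (B ⊗[A] (A ⧸ P.asIdeal.comap (algebraMap A B))) ≤
      (((deg hω q.asIdeal - deg hω p.asIdeal).toNat : ℕ) : WithBot ℕ∞) :=
    supportDim_base_change_le hω q hmax (p := p) hpq
  have hbd := le_trans hfib hbc
  change dep P.asIdeal (B ⊗[A] M) = _ at h1
  rw [show dep (P.asIdeal.comap (algebraMap A B)) M = (a : ℕ∞) from hdep] at h1
  generalize LocCoh.depth (Localization.AtPrime P.asIdeal) (GrothLib.SkFlat5.Fib A P.asIdeal B) = b at h1 hdf
  generalize Module.supportDim (Localization.AtPrime P.asIdeal) (GrothLib.SkFlat5.Fib A P.asIdeal B) = F at hdf h0 hbd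
  haveI : Nontrivial (B ⧸ P.asIdeal) := Ideal.Quotient.nontrivial_iff.2 P.2.ne_top
  have he0 := ringKrullDim_nonneg_of_nontrivial (R := B ⧸ P.asIdeal)
  generalize he : ringKrullDim (B ⧸ P.asIdeal) = e at he0 hbd
  have hdeg : deg hω p.asIdeal ≤ deg hω q.asIdeal := (degS_strictMono hω).monotone hpq
  obtain ⟨z, rfl⟩ := WithBot.ne_bot_iff_exists.1 (ne_bot_of_le_ne_bot (by decide) h0)
  obtain ⟨w, rfl⟩ := WithBot.ne_bot_iff_exists.1 (ne_bot_of_le_ne_bot (by decide) he0)
  have hbd' : z + w ≤ ((deg hω q.asIdeal - deg hω p.asIdeal).toNat : ℕ∞) := WithBot.coe_le_coe.1 hbd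
  have hdf' : b ≤ z := WithBot.coe_le_coe.1 hdf
  obtain ⟨fz, rfl⟩ := ENat.ne_top_iff_exists.1 (ne_top_of_le_ne_top (ENat.coe_ne_top _) (le_self_add.trans hbd'))
  obtain ⟨fe, rfl⟩ := ENat.ne_top_iff_exists.1 (ne_top_of_le_ne_top (ENat.coe_ne_top _) (le_add_self.trans hbd'))
  obtain ⟨fb, rfl⟩ := ENat.ne_top_iff_exists.1 (ne_top_of_le_ne_top (ENat.coe_ne_top _) hdf')
  have h5 : fb ≤ fz := by exact_mod_cast hdf'
  have h6 : fz + fe ≤ (deg hω q.asIdeal - deg hω p.asIdeal).toNat := by exact_mod_cast hbd'
  refine ⟨a + fb, fe, h1.trans (Nat.cast_add a fb).symm, rfl, Nat.le_add_right a fb, ?_⟩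
  change (a : ℤ) + (deg hω q.asIdeal - deg hω p.asIdeal) ≤ k at hk
  omega

end GrothLib.BootUnif3
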