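import Groth.Agent.Lib.LC.BaseChange

/-!
# Independence of the base ring, compatibly with the scalars of the upper ring
-/

set_option autoImplicit false
set_option linter.style.haveILetI false
set_option linter.unusedSectionVars false

universe u

open CategoryTheory Abelian

namespace GrothLib.BootUnif3

open GrothLib.LC

theorem δ_naturality {R : Type u} [CommRing R] (I : Ideal R) {S T : ShortComplex (ModuleCat.{u} R)}
    (hS : S.ShortExact) (hT : T.ShortExact) (φ : S ⟶ T) (i : ℕ) (x : (localCohomology I i).obj S.X₃) :
    (localCohomology I (i + 1)).map φ.τ₁ (δ I hS i x) = δ I hT i ((localCohomology I i).map φ.τ₃ x) := by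
  obtain ⟨n, e, rfl⟩ := exists_toH I x
  rw [δ_toH, map_toH, map_toH, δ_toH, Ext.comp_assoc_of_third_deg_zero,
    ShortComplex.ShortExact.extClass_naturality hS hT φ, ← Ext.comp_assoc_of_second_deg_zero]

variable {R : Type u} [CommRing R] {R' : Type u} [CommRing R'] [Algebra R R'] (I : Ideal R)

/-- Multiplication by an element of the upper ring, as a map over the lower ring. -/
noncomputable abbrev mulR (r' : R') (M : Type u) [AddCommGroup M] [Module R' M] [Module R M] [IsScalarTower R R' M] :
    ModuleCat.of R M ⟶ ModuleCat.of R M :=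
  ModuleCat.ofHom ((LinearMap.lsmul R' M r').restrictScalars R)

theorem exists_addEquiv {A' H' A H : Type u} [AddCommGroup A'] [AddCommGroup H'] [AddCommGroup A] [AddCommGroup H]
    [Module R' A'] [Module R' H'] [Module R A] [Module R H] (q' : A' →ₗ[R'] H') (q : A →ₗ[R] H) (e : A' ≃+ A)
    (hq' : Function.Surjective q') (hq : Function.Surjective q) (hker : ∀ a, q' a = 0 ↔ q (e a) = 0) :
    ∃ φ : H' ≃+ H, ∀ a, φ (q' a) = q (e a) := by
  choose s hs using hq'
  have key : ∀ a, q (e (s (q' a))) = q (e a) := fun a => by
    rw [← sub_eq_zero, ← map_sub, ← map_sub, ← hker, map_sub, hs, sub_self]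
  let f : H' →+ H := AddMonoidHom.mk' (fun x => q (e (s x))) fun x y => by
    conv_lhs => rw [← hs x, ← hs y, ← map_add q', key, map_add, map_add]
  refine ⟨AddEquiv.ofBijective f ⟨?_, fun y => ?_⟩, fun a => key a⟩
  · rw [injective_iff_map_eq_zero]
    intro x hx
    rw [← hs x]
    exact (hker _).2 hx
  · obtain ⟨a, rfl⟩ := hq y
    refine ⟨q' (e.symm a), ?_⟩
    show q (e (s (q' (e.symm a)))) = q a
    rw [key, e.apply_symm_apply]

/-- Local cohomology does not depend on the base ring, and scalars of the upper ring act by functoriality. -/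
theorem exists_H_addEquiv_mul [IsNoetherianRing R] [IsNoetherianRing R'] (i : ℕ) :
    ∀ (M : Type u) [AddCommGroup M] [Module R' M] [Module R M] [IsScalarTower R R' M],
      ∃ φ : (localCohomology (I.map (algebraMap R R')) i).obj (ModuleCat.of R' M) ≃+
          (localCohomology I i).obj (ModuleCat.of R M),
        ∀ (r' : R') (x : (localCohomology (I.map (algebraMap R R')) i).obj (ModuleCat.of R' M)),
          φ (r' • x) = (localCohomology I i).map (mulR r' M) (φ x) := by
  induction i using Nat.strong_induction_on with
  | _ i ih =>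
  intro M _ _ _ _
  rcases i with - | i
  · let t' := torsionEquiv (I.map (algebraMap R R')) (ModuleCat.of R' M)
    let t := torsionEquiv I (ModuleCat.of R M)
    let e : DRing.torsionSub (I.map (algebraMap R R')) M ≃+ DRing.torsionSub I M :=
      { toFun := fun m => ⟨m.1, (mem_torsionSub_map_iff I M m.1).1 m.2⟩
        invFun := fun m => ⟨m.1, (mem_torsionSub_map_iff I M m.1).2 m.2⟩
        left_inv := fun m => rfl
        right_inv := fun m => rfl
        map_add' := fun a b => rfl }
    refine ⟨t'.symm.toAddEquiv.trans (e.trans t.toAddEquiv), fun r x => ?_⟩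
    show t (e (t'.symm (r • x))) = (localCohomology I 0).map (mulR r M) (t (e (t'.symm x)))
    rw [map_smul, ← torsionEquiv_naturality]
    rfl
  · obtain ⟨E, _, _, ι, hE, hι⟩ := GrothLib.InjMod.exists_embedding_injective (R := R') M
    letI : Module R E := Module.compHom E (algebraMap R R')
    haveI : IsScalarTower R R' E := ⟨fun r r' e => by
      rw [Algebra.smul_def, mul_smul]; rfl⟩
    let C := E ⧸ LinearMap.range ι
    have hS' : (ShortComplex.mk (X₁ := ModuleCat.of R' M) (X₂ := ModuleCat.of R' E)
        (X₃ := ModuleCat.of R' C) (ModuleCat.ofHom ι) (ModuleCat.ofHom (LinearMap.range ι).mkQ)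
        (ModuleCat.hom_ext (LinearMap.range_mkQ_comp ι))).ShortExact :=
      { exact := (ShortComplex.moduleCat_exact_iff _).2 fun x hx =>
          (Submodule.Quotient.mk_eq_zero _).1 hx
        mono_f := (ModuleCat.mono_iff_injective _).2 hι
        epi_g := (ModuleCat.epi_iff_surjective _).2 (Submodule.mkQ_surjective _) }
    let S : ShortComplex (ModuleCat.{u} R) := ShortComplex.mk (X₁ := ModuleCat.of R M) (X₂ := ModuleCat.of R E)
        (X₃ := ModuleCat.of R C) (ModuleCat.ofHom (ι.restrictScalars R))
        (ModuleCat.ofHom ((LinearMap.range ι).mkQ.restrictScalars R))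
        (ModuleCat.hom_ext (LinearMap.ext fun x =>
          LinearMap.congr_fun (LinearMap.range_mkQ_comp ι) x))
    have hS : S.ShortExact :=
      { exact := (ShortComplex.moduleCat_exact_iff _).2 fun x hx =>
          (Submodule.Quotient.mk_eq_zero _).1 hx
        mono_f := (ModuleCat.mono_iff_injective _).2 hι
        epi_g := (ModuleCat.epi_iff_surjective _).2 (Submodule.mkQ_surjective _) }
    let mS : R' → (S ⟶ S) := fun r =>
      ShortComplex.homMk (mulR r M) (mulR r E) (mulR r C)
        (ModuleCat.hom_ext (LinearMap.ext fun x => (show ι (r • x) = r • ι x from ι.map_smul r x)))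
        (ModuleCat.hom_ext (LinearMap.ext fun x => rfl))
    have : Injective (ModuleCat.of R' E) := Module.injective_object_of_injective_module R' E
    have hE' := fun j => subsingleton_of_injective (I.map (algebraMap R R')) (ModuleCat.of R' E) j
    have hEr := fun j => subsingleton_restrictScalars_of_injective R R' I E j
    rcases i with - | i
    · let e : DRing.torsionSub (I.map (algebraMap R R')) C ≃+ DRing.torsionSub I C :=
        { toFun := fun m => ⟨m.1, (mem_torsionSub_map_iff I C m.1).1 m.2⟩
          invFun := fun m => ⟨m.1, (mem_torsionSub_map_iff I C m.1).2 m.2⟩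
          left_inv := fun m => rfl
          right_inv := fun m => rfl
          map_add' := fun a b => rfl }
      obtain ⟨φ, hφ⟩ := exists_addEquiv (torsionδ (I.map (algebraMap R R')) hS') (torsionδ I hS) e
        (torsionδ_surjective _ hS' hE') (torsionδ_surjective _ hS hEr) (fun c => by
          refine (mem_ker_torsionδ _ hS' c).trans (Iff.trans ?_ (mem_ker_torsionδ _ hS _).symm)
          exact ⟨fun ⟨x, hx, h⟩ => ⟨x, (mem_torsionSub_map_iff I E x).1 hx, h⟩,
            fun ⟨x, hx, h⟩ => ⟨x, (mem_torsionSub_map_iff I E x).2 hx, h⟩⟩)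
      refine ⟨φ, fun r x => ?_⟩
      obtain ⟨c, rfl⟩ := torsionδ_surjective _ hS' hE' x
      rw [← map_smul, hφ, hφ]
      show δ I hS 0 (torsionEquiv I S.X₃ (e (r • c))) =
        (localCohomology I 1).map (mS r).τ₁ (δ I hS 0 (torsionEquiv I S.X₃ (e c)))
      rw [δ_naturality I hS hS (mS r), ← torsionEquiv_naturality]
      rfl
    · obtain ⟨φ, hφ⟩ := ih (i + 1) (Nat.lt_succ_self _) C
      let s' := shiftEquiv (I.map (algebraMap R R')) hS' hE' i
      let s := shiftEquiv I hS hEr i
      refine ⟨s'.symm.toAddEquiv.trans (φ.trans s.toAddEquiv), fun r x => ?_⟩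
      show s (φ (s'.symm (r • x))) = (localCohomology I (i + 2)).map (mS r).τ₁ (s (φ (s'.symm x)))
      rw [map_smul, hφ]
      exact (δ_naturality I hS hS (mS r) (i + 1) _).symm

end GrothLib.BootUnif3
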