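import Groth.Agent.Lib.BootUnif3.Restrict
import Groth.Agent.Lib.LC.FlatBC
import Groth.Agent.Lib.LC.Acyclic
import Groth.Agent.Lib.FaltingsT3.Duality
import Groth.Agent.Lib.DualCx22.EssFT
import Groth.Agent.Lib.DualRing.Dimension
import Mathlib.Algebra.DualNumber
import Mathlib.Algebra.Category.ModuleCat.ChangeOfRings

/-!
# The locus where a map of finite modules dies in local cohomology at a prime
-/

set_option autoImplicit false
set_option linter.style.haveILetI false
set_option linter.unusedSectionVars false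

universe u

open CategoryTheory CategoryTheory.Limits TensorProduct GrothLib.DualCx22 GrothLib.DualRing

attribute [local instance] HasDerivedCategory.standard

namespace GrothLib.BootUnif3

variable {A : Type u} [CommRing A]

/-- The map dies in local cohomology at `q`, seen from the ideal `J`. -/
def Dies (J : Ideal A) (q : PrimeSpectrum A) (i : ℕ) {N' N : ModuleCat.{u} A} (φ : N' ⟶ N) : Prop :=
  ∀ x : (localCohomology J i).obj N', ∃ t : A, t ∉ q.asIdeal ∧ t • (localCohomology J i).map φ x = 0

/-- A map as a module over the dual numbers. -/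
def PairMod {N' N : ModuleCat.{u} A} (_φ : N' ⟶ N) : Type u := N' × N

variable {N' N : ModuleCat.{u} A} (φ : N' ⟶ N)

noncomputable instance : AddCommGroup (PairMod φ) := inferInstanceAs (AddCommGroup (N' × N))

noncomputable instance : Module A (PairMod φ) := inferInstanceAs (Module A (N' × N))

noncomputable instance : Module (DualNumber A) (PairMod φ) where
  smul r p := ((r.fst • p.1 : N'), (r.fst • p.2 + r.snd • φ.hom p.1 : N))
  one_smul p := Prod.ext (one_smul A p.1) (by
    show (1 : DualNumber A).fst • p.2 + (1 : DualNumber A).snd • φ.hom p.1 = p.2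
    simp)
  mul_smul r r' p := Prod.ext (mul_smul r.fst r'.fst p.1) (by
    show (r * r').fst • p.2 + (r * r').snd • φ.hom p.1 =
      r.fst • (r'.fst • p.2 + r'.snd • φ.hom p.1) + r.snd • φ.hom (r'.fst • p.1)
    simp only [TrivSqZeroExt.fst_mul, TrivSqZeroExt.snd_mul, smul_add, smul_smul, map_smul, smul_eq_mul,
      MulOpposite.smul_eq_mul_unop, MulOpposite.unop_op, add_smul]
    abel)
  smul_zero r := Prod.ext (smul_zero r.fst) (by
    show r.fst • (0 : N) + r.snd • φ.hom (0 : N') = 0
    simp)
  smul_add r p p' := Prod.ext (smul_add r.fst p.1 p'.1) (by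
    show r.fst • (p.2 + p'.2) + r.snd • φ.hom (p.1 + p'.1) =
      (r.fst • p.2 + r.snd • φ.hom p.1) + (r.fst • p'.2 + r.snd • φ.hom p'.1)
    simp only [smul_add, map_add]
    abel)
  add_smul r r' p := Prod.ext (add_smul r.fst r'.fst p.1) (by
    show (r + r').fst • p.2 + (r + r').snd • φ.hom p.1 =
      (r.fst • p.2 + r.snd • φ.hom p.1) + (r'.fst • p.2 + r'.snd • φ.hom p.1)
    simp only [TrivSqZeroExt.fst_add, TrivSqZeroExt.snd_add, add_smul]
    abel)
  zero_smul p := Prod.ext (zero_smul A p.1) (by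
    show (0 : DualNumber A).fst • p.2 + (0 : DualNumber A).snd • φ.hom p.1 = 0
    simp)

theorem algebraMap_fst_snd (a : A) :
    (algebraMap A (DualNumber A) a).fst = a ∧ (algebraMap A (DualNumber A) a).snd = 0 :=
  ⟨rfl, rfl⟩

instance : IsScalarTower A (DualNumber A) (PairMod φ) :=
  IsScalarTower.of_algebraMap_smul fun a p => Prod.ext rfl (by
    show a • p.2 + (0 : A) • φ.hom p.1 = a • p.2
    simp)

instance [Module.Finite A N'] [Module.Finite A N] : Module.Finite (DualNumber A) (PairMod φ) :=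
  haveI : Module.Finite A (PairMod φ) := inferInstanceAs (Module.Finite A (N' × N))
  Module.Finite.of_restrictScalars_finite A (DualNumber A) (PairMod φ)

instance : Module.Finite A (DualNumber A) := inferInstanceAs (Module.Finite A (A × A))

variable [IsNoetherianRing A]

instance : IsNoetherianRing (DualNumber A) := IsNoetherianRing.of_finite A (DualNumber A)

theorem fst_mul_eps {B : Type u} [CommRing B] (s : DualNumber B) :
    algebraMap B (DualNumber B) s.fst * DualNumber.eps = s * DualNumber.eps := by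
  refine TrivSqZeroExt.ext ?_ ?_
  · show s.fst * (0 : B) = s.fst * 0
    rfl
  · show s.fst • (1 : B) + MulOpposite.op (0 : B) • (0 : B) = s.fst • (1 : B) + MulOpposite.op (0 : B) • s.snd
    simp

/-- The prime of the dual numbers over a prime. -/
noncomputable def upPrime (q : PrimeSpectrum A) : PrimeSpectrum (DualNumber A) :=
  PrimeSpectrum.comap (TrivSqZeroExt.fstHom A A A).toRingHom q

theorem mem_upPrime {q : PrimeSpectrum A} {r : DualNumber A} : r ∈ (upPrime q).asIdeal ↔ r.fst ∈ q.asIdeal :=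
  Iff.rfl

theorem upPrime_minimal {J : Ideal A} {q : PrimeSpectrum A} (hJq : q.asIdeal ∈ J.minimalPrimes) :
    (upPrime q).asIdeal ∈ (J.map (algebraMap A (DualNumber A))).minimalPrimes := by
  refine ⟨⟨(upPrime q).2, Ideal.map_le_iff_le_comap.2 fun a ha => hJq.1.2 ha⟩, fun r ⟨hr, hJr⟩ hrq x hx => ?_⟩
  haveI := hr
  have hε : (DualNumber.eps : DualNumber A) ∈ r := by
    refine (hr.mem_or_mem (?_ : DualNumber.eps * DualNumber.eps ∈ r)).elim id id
    rw [DualNumber.eps_mul_eps]
    exact r.zero_mem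
  have h : q.asIdeal ≤ r.comap (algebraMap A (DualNumber A)) :=
    hJq.2 ⟨inferInstance, Ideal.map_le_iff_le_comap.1 hJr⟩ fun a ha => hrq ha
  have hdec : x = algebraMap A (DualNumber A) x.fst + algebraMap A (DualNumber A) x.snd * DualNumber.eps :=
    TrivSqZeroExt.ext (by simp [algebraMap_fst_snd]) (by simp [algebraMap_fst_snd])
  rw [hdec]
  exact r.add_mem (h (mem_upPrime.1 hx)) (r.mul_mem_left _ hε)

variable {ω : Dual.D A} (hω : Dual.IsDualizing A ω)

include hω in
/-- The criterion. -/
theorem dies_iff {ω' : Dual.D (DualNumber A)} (hω' : Dual.IsDualizing (DualNumber A) ω') (q : PrimeSpectrum A)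
    {J : Ideal A} (hJq : q.asIdeal ∈ J.minimalPrimes) (i : ℕ) [Module.Finite A N'] [Module.Finite A N] :
    Dies J q i φ ↔ ∀ ξ : EH ω' (Dual.inD (DualNumber A) (PairMod φ)) (deg hω' (upPrime q).asIdeal - i),
      ∃ s, s ∉ (upPrime q).asIdeal ∧ s • (DualNumber.eps : DualNumber A) • ξ = 0 := by
  refine Iff.trans ?_ (GrothLib.FaltingsT3.killed_local_iff_dual hω' (upPrime q) (PairMod φ) i DualNumber.eps)
  let R' := DualNumber A
  let q' := upPrime q
  let B := Localization.AtPrime q'.asIdeal
  let J' := J.map (algebraMap A R')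
  haveI : Module.Flat R' B := IsLocalization.flat B q'.asIdeal.primeCompl
  haveI : IsNoetherianRing B := IsLocalization.isNoetherianRing q'.asIdeal.primeCompl _ inferInstance
  let X := (localCohomology J' i).obj (ModuleCat.of R' (PairMod φ))
  have hrad : (J'.map (algebraMap R' B)).radical = (IsLocalRing.maximalIdeal B).radical := by
    rw [IsLocalization.AtPrime.radical_map_of_mem_minimalPrimes (A := B) q'.asIdeal J' (upPrime_minimal hJq),
      (IsLocalRing.maximalIdeal.isMaximal B).isPrime.radical, Localization.AtPrime.map_eq_maximalIdeal]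
  obtain ⟨e₀⟩ := GrothLib.LC.nonempty_baseChange_equiv (R' := B) J' i (PairMod φ)
  let iso : (localCohomology (J'.map (algebraMap R' B)) i).obj (ModuleCat.of B (B ⊗[R'] (PairMod φ))) ≅
      (localCohomology (IsLocalRing.maximalIdeal B) i).obj
        (GrothLib.FaltingsT3.locM q' (ModuleCat.of R' (PairMod φ))) :=
    (localCohomology (J'.map (algebraMap R' B)) i).mapIso
        (LocalizedModule.isBaseChange q'.asIdeal.primeCompl (PairMod φ)).equiv.toModuleIso ≪≫
      (localCohomology.isoOfSameRadical hrad i).app _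
  let e : B ⊗[R'] X ≃ₗ[B] (localCohomology (IsLocalRing.maximalIdeal B) i).obj
      (GrothLib.FaltingsT3.locM q' (ModuleCat.of R' (PairMod φ))) := e₀.trans iso.toLinearEquiv
  haveI : IsLocalizedModule q'.asIdeal.primeCompl (TensorProduct.mk R' B X 1) :=
    (isLocalizedModule_iff_isBaseChange q'.asIdeal.primeCompl B _).2 (TensorProduct.isBaseChange R' _ B)
  obtain ⟨Φ, hΦ⟩ := exists_H_addEquiv_mul (R := A) (R' := R') J i (PairMod φ)
  let P := ModuleCat.of A (PairMod φ)
  let π₁ : P ⟶ N' := ModuleCat.ofHom (LinearMap.fst A N' N)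
  let ι₁ : N' ⟶ P := ModuleCat.ofHom (LinearMap.inl A N' N)
  let π₂ : P ⟶ N := ModuleCat.ofHom (LinearMap.snd A N' N)
  let ι₂ : N ⟶ P := ModuleCat.ofHom (LinearMap.inr A N' N)
  have hεmap : mulR (R := A) (DualNumber.eps : R') (PairMod φ) = π₁ ≫ φ ≫ ι₂ := by
    refine ModuleCat.hom_ext (LinearMap.ext fun p => Prod.ext ?_ ?_)
    · show (DualNumber.eps : R').fst • p.1 = 0
      simp
    · show (DualNumber.eps : R').fst • p.2 + (DualNumber.eps : R').snd • φ.hom p.1 = φ.hom p.1
      simp
  have halg : ∀ (a : A) (y : X), Φ (algebraMap A R' a • y) = a • Φ y := fun a y => by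
    rw [hΦ, show mulR (R := A) (algebraMap A R' a) (PairMod φ) = a • 𝟙 P from
      ModuleCat.hom_ext (LinearMap.ext fun p => algebraMap_smul R' a p)]
    exact (GrothLib.LC.map_smul_apply _ _ _ _ _).trans (congrArg (a • ·) (GrothLib.LC.map_id_apply _ _ _))
  let F := localCohomology J i
  have hιπ : ι₁ ≫ π₁ = 𝟙 N' := ModuleCat.hom_ext (LinearMap.ext fun _ => rfl)
  have hιπ₂ : ι₂ ≫ π₂ = 𝟙 N := ModuleCat.hom_ext (LinearMap.ext fun _ => rfl)
  have key : Dies J q i φ ↔ ∀ y : X, ∃ s, s ∉ q'.asIdeal ∧ s • (DualNumber.eps : R') • y = 0 := by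
    constructor
    · intro h y
      obtain ⟨t, ht, hty⟩ := h (F.map π₁ (Φ y))
      refine ⟨algebraMap A R' t, fun h' => ht h', Φ.injective ?_⟩
      rw [halg, hΦ, hεmap, map_zero, Functor.map_comp, Functor.map_comp]
      show t • (F.map ι₂).hom ((F.map φ).hom ((F.map π₁).hom (Φ y))) = 0
      rw [← map_smul, hty, map_zero]
    · intro h x
      obtain ⟨s, hs, hsy⟩ := h (Φ.symm (F.map ι₁ x))
      refine ⟨s.fst, fun h' => hs h', ?_⟩
      have h1 : algebraMap A R' s.fst • (DualNumber.eps : R') • Φ.symm (F.map ι₁ x) = 0 := by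
        rw [← mul_smul, show algebraMap A R' s.fst * DualNumber.eps = s * DualNumber.eps from
          fst_mul_eps s, mul_smul, hsy]
      have h2 := congrArg Φ h1
      rw [halg, hΦ, map_zero, Φ.apply_symm_apply, hεmap] at h2
      have h3 := congrArg (fun z => (F.map π₂).hom z) h2
      simp only [map_zero, map_smul] at h3
      refine Eq.trans (congrArg (s.fst • ·) ?_) h3
      show (F.map φ).hom x = (F.map π₂).hom ((F.map (π₁ ≫ φ ≫ ι₂)).hom ((F.map ι₁).hom x))
      have hc : ι₁ ≫ (π₁ ≫ φ ≫ ι₂) ≫ π₂ = φ := by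
        rw [Category.assoc, Category.assoc, hιπ₂, Category.comp_id, reassoc_of% hιπ]
      conv_lhs => rw [← hc]
      rw [Functor.map_comp, Functor.map_comp]
      rfl
  refine key.trans ⟨fun h x => ?_, fun h y => ?_⟩
  · obtain ⟨z, rfl⟩ := e.surjective x
    rw [← map_smul e]
    refine (congrArg e ?_).trans (map_zero e)
    induction z with
    | zero => rw [smul_zero]
    | add y z hy hz => rw [smul_add, hy, hz, add_zero]
    | tmul c y =>
      obtain ⟨s, hs, hs'⟩ := h y
      have h0 : TensorProduct.mk R' B X 1 ((DualNumber.eps : R') • y) = 0 :=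
        (IsLocalizedModule.eq_zero_iff q'.asIdeal.primeCompl _).2 ⟨⟨s, hs⟩, hs'⟩
      rw [TensorProduct.mk_apply] at h0
      rw [algebraMap_smul, ← TensorProduct.tmul_smul,
        show c ⊗ₜ[R'] ((DualNumber.eps : R') • y) = c • ((1 : B) ⊗ₜ[R'] ((DualNumber.eps : R') • y)) by
          rw [TensorProduct.smul_tmul', smul_eq_mul, mul_one], h0, smul_zero]
  · have h1 : algebraMap R' B DualNumber.eps • ((1 : B) ⊗ₜ[R'] y) = 0 :=
      e.injective (((map_smul e _ _).trans (h _)).trans (map_zero e).symm)
    rw [algebraMap_smul, ← TensorProduct.tmul_smul] at h1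
    obtain ⟨s, hs⟩ := (IsLocalizedModule.eq_zero_iff q'.asIdeal.primeCompl (TensorProduct.mk R' B X 1)).1 h1
    exact ⟨s, s.2, hs⟩

include hω in
/-- **Strata.** There is a function with finite range on the spectrum such that, on each of its fibres, the locus
where a map of finite modules does not die in local cohomology is the trace of a closed set. -/
theorem exists_strata : ∃ (δ : PrimeSpectrum A → ℤ) (s : Finset ℤ), (∀ q, δ q ∈ s) ∧
    ∀ (N' N : ModuleCat.{u} A) [Module.Finite A N'] [Module.Finite A N] (φ : N' ⟶ N) (i : ℕ),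
      ∃ C : ℤ → Set (PrimeSpectrum A), (∀ j, IsClosed (C j)) ∧
        ∀ (q : PrimeSpectrum A) (J : Ideal A), q.asIdeal ∈ J.minimalPrimes → (Dies J q i φ ↔ q ∉ C (δ q)) := by
  let R' := DualNumber A
  obtain ⟨ω', hω'⟩ : ∃ ω' : Dual.D R', Dual.IsDualizing R' ω' := exists_dualizing_finite R' ⟨ω, hω⟩
  obtain ⟨a, b, hab⟩ := exists_deg_range hω'
  refine ⟨fun q => degS hω' (upPrime q), Finset.Icc a b, fun q => Finset.mem_Icc.2 (hab _), ?_⟩
  intro N' N _ _ φ i
  have hX : ∀ j : ℤ, ∃ (X : ModuleCat.{u} R'), Module.Finite R' X ∧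
      Nonempty (X ≃ₗ[R'] EH ω' (Dual.inD R' (PairMod φ)) j) := fun j =>
    exists_finite_hom_equiv hω' _ (finite_HD_inD (PairMod φ)) j
  choose X hXfin eX using hX
  let E : ∀ j, Submodule R' (X (j - i)) := fun j =>
    LinearMap.range ((LinearMap.lsmul R' (X (j - i))) (DualNumber.eps : R'))
  refine ⟨fun j => upPrime ⁻¹' Module.support R' (E j), fun j => ?_, fun q J hJq => ?_⟩
  · haveI := hXfin (j - i)
    exact (Module.isClosed_support (R := R') (M := E j)).preimage
      (PrimeSpectrum.continuous_comap (TrivSqZeroExt.fstHom A A A).toRingHom)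
  · refine (dies_iff φ hω hω' q hJq i).trans ?_
    obtain ⟨f⟩ := eX (degS hω' (upPrime q) - i)
    change _ ↔ upPrime q ∉ Module.support R' (E (degS hω' (upPrime q)))
    rw [Module.notMem_support_iff']
    constructor
    · rintro h ⟨_, z, rfl⟩
      obtain ⟨s, hs, hs'⟩ := h (f z)
      refine ⟨s, hs, Subtype.ext (f.injective ?_)⟩
      show f (s • (DualNumber.eps : R') • z) = f 0
      exact (((f.map_smul s _).trans (congrArg (s • ·) (f.map_smul _ z))).trans hs').trans (map_zero f).symm
    · intro h ξ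
      obtain ⟨s, hs, hs'⟩ := h ⟨_, f.symm ξ, rfl⟩
      refine ⟨s, hs, f.symm.injective ?_⟩
      exact (((f.symm.map_smul s _).trans (congrArg (s • ·) (f.symm.map_smul _ ξ))).trans
        (congrArg Subtype.val hs')).trans (map_zero f.symm).symm

end GrothLib.BootUnif3
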