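import Groth.Agent.Lib.BootUnif3.Core
import Groth.Agent.Lib.BootUnif3.Glue
import Mathlib.RingTheory.Spectrum.Prime.Noetherian

/-!
# Uniformity over the support set
-/

set_option autoImplicit false
set_option linter.style.haveILetI false
set_option linter.unusedSectionVars false

universe u

open CategoryTheory GrothLib.DualRing GrothLib.DualCx22 PrimeSpectrum

attribute [local instance] HasDerivedCategory.standard

namespace GrothLib.BootUnif3

variable {A : Type u} [CommRing A] [IsNoetherianRing A]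

theorem powIncl_comp (I : Ideal A) (M : Type u) [AddCommGroup M] [Module A M] {n l k : ℕ} (h₁ : n ≤ l) (h₂ : l ≤ k) :
    powIncl I M h₂ ≫ powIncl I M h₁ = powIncl I M (h₁.trans h₂) := rfl

theorem Dies.precomp {J : Ideal A} {q : PrimeSpectrum A} {i : ℕ} {N'' N' N : ModuleCat.{u} A} {φ : N' ⟶ N}
    (h : Dies J q i φ) (ψ : N'' ⟶ N') : Dies J q i (ψ ≫ φ) := fun x => by
  obtain ⟨t, ht, h0⟩ := h ((localCohomology J i).map ψ x)
  refine ⟨t, ht, ?_⟩
  rw [Functor.map_comp]
  exact h0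

variable {ω : Dual.D A} (hω : Dual.IsDualizing A ω) {I : Ideal A} {d s : ℕ}
  {M : Type u} [AddCommGroup M] [Module A M] [Module.Finite A M] {T : Set (PrimeSpectrum A)}
  (S : Cond I d s M T)

include hω S in
/-- One exponent for all points of `T`. -/
theorem exists_uniform (i : ℕ) (hi : i ≤ s + 1) (b : ℕ) :
    ∃ (m : ℕ) (h : b ≤ m), ∀ q ∈ T, ∀ (k : ℕ) (hk : m ≤ k), ∀ J : Ideal A, q.asIdeal ∈ J.minimalPrimes →
      Dies J q i (powIncl I M (h.trans hk)) := by
  classical
  obtain ⟨δ, R, hR, hstrata⟩ := exists_strata hω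
  choose C hC hiff using fun l : ℕ => hstrata _ _ (powIncl I M (Nat.le_add_right b l)) i
  have hself : ∀ q : PrimeSpectrum A, q.asIdeal ∈ q.asIdeal.minimalPrimes := fun q =>
    ⟨⟨q.isPrime, le_rfl⟩, fun _ h _ => h.2⟩
  have hmono : ∀ (q : PrimeSpectrum A) (l l' : ℕ), l ≤ l' → q ∈ C l' (δ q) → q ∈ C l (δ q) :=
    fun q l l' hll hq => by
      by_contra hn
      exact (hiff l' q q.asIdeal (hself q)).1
        (((hiff l q q.asIdeal (hself q)).2 hn).precomp (powIncl I M (Nat.add_le_add_left hll b))) hq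
  let D : ℤ → ℕ → TopologicalSpace.Closeds (PrimeSpectrum A) := fun j l =>
    ⟨⋂ l' ∈ Finset.range (l + 1), C l' j, isClosed_biInter fun l' _ => hC l' j⟩
  have hDanti : ∀ j, Antitone (D j) := fun j l l' hll => by
    intro x hx
    simp only [D, TopologicalSpace.Closeds.mem_mk, Set.mem_iInter, Finset.mem_range] at hx ⊢
    exact fun n hn => hx n (by omega)
  have hstab : ∀ j, ∃ l₀, ∀ l, l₀ ≤ l → D j l₀ ≤ D j l := fun j => by
    obtain ⟨_, ⟨l₀, rfl⟩, hmin⟩ := wellFounded_lt.has_min (Set.range (D j)) ⟨_, 0, rfl⟩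
    exact ⟨l₀, fun l hl => le_of_eq (by
      by_contra hne
      exact hmin _ ⟨l, rfl⟩ (lt_of_le_of_ne (hDanti j hl) (Ne.symm hne)))⟩
  choose l₀ hl₀ using hstab
  let L := R.sup l₀
  refine ⟨b + L, Nat.le_add_right b L, fun q hq k hk J hJ => ?_⟩
  have hL : q ∉ C L (δ q) := fun hmem => by
    obtain ⟨m, hm, hdies⟩ := exists_dies hω S hq i hi b
    obtain ⟨l, rfl⟩ := Nat.exists_eq_add_of_le hm
    have h1 : q ∈ D (δ q) (l₀ (δ q)) := by
      simp only [D, TopologicalSpace.Closeds.mem_mk, Set.mem_iInter, Finset.mem_range]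
      exact fun n hn => hmono q n L (Nat.le_trans (Nat.lt_succ_iff.1 hn) (Finset.le_sup (f := l₀) (hR q))) hmem
    have h2 := hl₀ (δ q) (max l (l₀ (δ q))) (le_max_right _ _) h1
    simp only [D, TopologicalSpace.Closeds.mem_mk, Set.mem_iInter, Finset.mem_range] at h2
    exact (hiff l q q.asIdeal (hself q)).1 (hdies q.asIdeal (hself q))
      (h2 l (Nat.lt_succ_of_le (le_max_left _ _)))
  exact ((hiff L q J hJ).2 hL).precomp (powIncl I M hk)

include hω S in
/-- **The system `H^i_T(I^n M)` is pro-zero for `i ≤ s + 1`.** -/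
theorem exists_HT_map_zero (i : ℕ) (hi : i ≤ s + 1) (n : ℕ) :
    ∃ (m : ℕ) (h : n ≤ m), ∀ (k : ℕ) (hk : m ≤ k),
      ∀ x : (GrothLib.LCSupp.HF T i).obj (ModuleCat.of A (powSub I M k)),
        (GrothLib.LCSupp.HF T i).map (powIncl I M (h.trans hk)) x = 0 := by
  choose m' hm' hdies using fun b => exists_uniform hω S i hi b
  obtain ⟨e, he⟩ := length_lt_of_finite_dim (T := T) (GrothLib.DualRing.ringKrullDim_lt_top hω)
  refine ⟨(m'^[e]) n, Function.id_le_iterate_of_id_le hm' e n, fun k hk x => ?_⟩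
  exact map_eq_zero_of_dies (F := fun l => ↥(powSub I M l))
    (fun k m h => Submodule.inclusion (Submodule.smul_mono_left (Ideal.pow_le_pow_right h)))
    (fun _ _ _ _ _ => rfl) m' hm' i e T S.stable he
    (fun p hp m k h hk J hJ => hdies m p hp k hk J hJ) n k ((Function.id_le_iterate_of_id_le hm' e n).trans hk) hk x

end GrothLib.BootUnif3
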